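import Cfsg.Agent.Ree.SevenPow.Local
import Cfsg.Agent.Transfer.Frobenius

/-!
The transfer into the Sylow 7-subgroup is nontrivial at `z`.
-/

set_option autoImplicit false
set_option linter.unusedSectionVars false
set_option linter.style.haveILetI false

namespace Cfsg.Lib.Ree.SevenPow

open Subgroup MulAction

universe u

variable {G : Type u} [Group G] [Finite G] {i : ℕ} {x y c : G} {A : Subgroup G} {β : ℕ}

local notation "z₀" => x ^ 7 ^ (i - 1)
local notation "S₀" => sSub x A
local notation "N₀" => normalizer ((sSub x A : Subgroup G) : Set G)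

/-- A function invariant under a group of order a power of 7, with values of exponent 7, equal to `v` at the fixed
points, has product the power of `v` by the number of points. -/
theorem prod_invariant {K : Type*} [Group K] {X : Type*} [Fintype X] [MulAction K X] (hK : IsPGroup 7 K) [Finite K]
    {M : Type*} [CommGroup M] (f : X → M) (hf : ∀ (k : K) (q : X), f (k • q) = f q) (h7 : ∀ q, f q ^ 7 = 1) {v : M}
    (hv : ∀ q, (∀ k : K, k • q = q) → f q = v) (hv7 : v ^ 7 = 1) : ∏ q, f q = v ^ Nat.card X := by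
  classical
  have key : ∀ a : M, ∀ (F : X → M), (∀ (k : K) (q : X), F (k • q) = F q) →
      Nat.card {q // F q = a} ≡ Nat.card {q // (∀ k : K, k • q = q) ∧ F q = a} [MOD 7] := by
    intro a F hF
    let Y : SubMulAction K X := ⟨{q | F q = a}, fun k q hq => (hF k q).trans hq⟩
    refine (hK.card_modEq_card_fixedPoints Y).trans (congrArg (· % 7) (Nat.card_congr ?_))
    exact
      { toFun := fun q => ⟨q.1.1, fun k => congrArg Subtype.val (q.2 k), q.1.2⟩
        invFun := fun q => ⟨⟨q.1, q.2.2⟩, fun k => Subtype.ext (q.2.1 k)⟩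
        left_inv := fun q => rfl
        right_inv := fun q => rfl }
  have hfix : Nat.card {q : X // ∀ k : K, k • q = q} ≡ Nat.card X [MOD 7] := by
    refine ((hK.card_modEq_card_fixedPoints X).trans ?_).symm
    exact congrArg (· % 7) (Nat.card_congr (Equiv.subtypeEquivRight fun q => Iff.rfl))
  have hper : ∀ a : M, a ^ 7 = 1 → a ^ Nat.card {q // f q = a} = if a = v then v ^ Nat.card X else 1 := by
    intro a ha
    have h := key a f hf
    split_ifs with e
    · subst e
      refine pow_eq_pow_iff_modEq.2 ((h.trans ?_).of_dvd (orderOf_dvd_of_pow_eq_one ha))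
      refine Nat.ModEq.trans ?_ hfix
      exact congrArg (· % 7) (Nat.card_congr (Equiv.subtypeEquivRight fun q => ⟨fun hq => hq.1, fun hq => ⟨hq, hv q hq⟩⟩))
    · refine orderOf_dvd_iff_pow_eq_one.1 ((orderOf_dvd_of_pow_eq_one ha).trans ?_)
      haveI : IsEmpty {q : X // (∀ k : K, k • q = q) ∧ f q = a} := ⟨fun q => e (q.2.2.symm.trans (hv _ q.2.1))⟩
      rw [Nat.card_of_isEmpty (α := {q : X // (∀ k : K, k • q = q) ∧ f q = a})] at h
      exact Nat.modEq_zero_iff_dvd.1 h
  calc ∏ q, f q = ∏ a ∈ insert v (Finset.univ.image f), ∏ q ∈ Finset.univ.filter (fun q => f q = a), f q :=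
        (Finset.prod_fiberwise_of_maps_to (fun q _ => Finset.mem_insert_of_mem (Finset.mem_image_of_mem f (Finset.mem_univ q))) f).symm
    _ = ∏ a ∈ insert v (Finset.univ.image f), a ^ Nat.card {q // f q = a} := by
        refine Finset.prod_congr rfl fun a _ => ?_
        rw [Finset.prod_congr rfl fun q hq => (Finset.mem_filter.1 hq).2, Finset.prod_const,
          Nat.card_eq_fintype_card, Fintype.card_subtype]
    _ = ∏ a ∈ insert v (Finset.univ.image f), if a = v then v ^ Nat.card X else 1 := by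
        refine Finset.prod_congr rfl fun a ha => hper a ?_
        rcases Finset.mem_insert.1 ha with rfl | ha
        · exact hv7
        · obtain ⟨q, -, rfl⟩ := Finset.mem_image.1 ha
          exact h7 q
    _ = v ^ Nat.card X := by rw [Finset.prod_ite_eq', if_pos (Finset.mem_insert_self _ _)]

theorem out_conj_mem {P : Subgroup G} {u : G} (q : G ⧸ P) (h : u • q = q) : q.out⁻¹ * u * q.out ∈ P := by
  rw [mul_assoc]
  refine QuotientGroup.eq.1 ?_
  rw [QuotientGroup.out_eq', ← smul_eq_mul, MulAction.Quotient.coe_smul_out]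
  exact h.symm

namespace SData

variable (D : SData i x y c A β)
include D

/-- The Sylow subgroups above `S` normalize it. -/
theorem sylow_le (P : Sylow 7 G) (hSP : S₀ ≤ (P : Subgroup G)) : (P : Subgroup G) ≤ N₀ := by
  set P₁ := (P : Subgroup G) ⊓ N₀ with hP₁
  have hP₁p : IsPGroup 7 P₁ := P.2.to_le inf_le_left
  have hSP₁ : S₀ ≤ P₁ := le_inf hSP le_normalizer
  by_contra hc
  have hlt : P₁ < (P : Subgroup G) := lt_of_le_of_ne inf_le_left fun e => hc (e ▸ inf_le_right)
  obtain ⟨h, hh, hhn⟩ := SetLike.exists_of_lt (Cfsg.Lib.Transfer.lt_inf_normalizer_of_lt P hlt)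
  refine hhn ⟨hh.1, ?_⟩
  have hconj : ∀ u ∈ P₁, h * u * h⁻¹ ∈ P₁ := fun u hu => (mem_normalizer_iff.1 hh.2 u).1 hu
  set v := h * z₀ * h⁻¹ with hv
  set Q := (S₀).map (MulAut.conj h).toMonoidHom with hQ
  have hQle : Q ≤ P₁ ⊓ centralizer ({v} : Set G) := by
    rintro _ ⟨s, hs, rfl⟩
    exact ⟨hconj s (hSP₁ hs), mem_centralizer_singleton_iff.2 ((Commute.conj_iff h).2 (D.z_comm hs).symm).eq⟩
  obtain ⟨e, he⟩ := D.conj_cases hP₁p hSP₁ inf_le_right (g := h) (hconj _ (hSP₁ D.z_mem)) (by
    refine le_trans (le_of_eq ?_) (card_le_of_le hQle)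
    rw [hQ, card_map_of_injective (MulAut.conj h).injective, D.card_S])
  set R := Q ⊔ S₀ with hR
  have hvS : ∀ s ∈ S₀, Commute s v := fun s hs => by
    rw [hv, he]
    exact (D.z_comm hs).symm.mul_right ((D.y_comm hs).symm.pow_right e)
  have hRC : R ≤ centralizer ({v} : Set G) := sup_le (hQle.trans inf_le_right)
    fun s hs => mem_centralizer_singleton_iff.2 (hvS s hs).eq
  have hRp : IsPGroup 7 R := hP₁p.to_le (sup_le (hQle.trans inf_le_left) hSP₁)
  have heq : R.map (MulAut.conj h⁻¹).toMonoidHom = S₀ := by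
    refine D.eq_S_of_cent (hRp.map _) ?_ ?_
    · intro s hs
      refine ⟨h * s * h⁻¹, mem_sup_left ⟨s, hs, rfl⟩, ?_⟩
      simp; group
    · rintro _ ⟨q, hq, rfl⟩
      have e' := (Commute.conj_iff h⁻¹).2 (show Commute q v from mem_centralizer_singleton_iff.1 (hRC hq))
      rw [hv, show h⁻¹ * (h * z₀ * h⁻¹) * h⁻¹⁻¹ = z₀ by group] at e'
      exact e'
  have hRcard : Nat.card R = 7 ^ (2 * i) := by
    rw [← card_map_of_injective (f := (MulAut.conj h⁻¹).toMonoidHom) (MulAut.conj h⁻¹).injective (K := R), heq, D.card_S]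
  have hQR : Q = R := Subgroup.eq_of_le_of_card_ge le_sup_left (by
    rw [hRcard, hQ, card_map_of_injective (MulAut.conj h).injective, D.card_S])
  have hSQ : S₀ = Q := hQR ▸ Subgroup.eq_of_le_of_card_ge (le_sup_right : S₀ ≤ R) (by rw [hRcard, D.card_S])
  refine mem_normalizer_iff.2 fun s => ⟨fun hs => ?_, fun hs => ?_⟩
  · rw [hSQ]
    exact ⟨s, hs, rfl⟩
  · rw [hSQ] at hs
    obtain ⟨t, ht, hts⟩ := hs
    exact (MulAut.conj h).injective hts ▸ ht

/-- The contradiction with simplicity. -/
theorem false [IsSimpleGroup G] (hnab : ¬ IsMulCommutative G) : False := by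
  classical
  obtain ⟨P, hSP⟩ := D.pGroup_S.exists_le_sylow
  have hN := D.sylow_le P hSP
  set A' := A.subgroupOf (P : Subgroup G) with hA'
  haveI : A'.Normal := ⟨fun a ha n => mem_subgroupOf.2 (by
    push_cast
    exact D.A_normal P.2 hSP hN n n.2 _ (mem_subgroupOf.1 ha))⟩
  letI : CommGroup ((P : Subgroup G) ⧸ A') :=
    { (inferInstance : Group ((P : Subgroup G) ⧸ A')) with
      mul_comm := fun a b => by
        induction a using QuotientGroup.induction_on with | H n => ?_
        induction b using QuotientGroup.induction_on with | H n' => ?_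
        rw [← QuotientGroup.mk_mul, ← QuotientGroup.mk_mul, QuotientGroup.eq]
        refine mem_subgroupOf.2 ?_
        push_cast
        have h := D.comm_mod P.2 hSP hN (inv_mem n'.2) (inv_mem n.2)
        rwa [inv_inv, inv_inv, show (n' : G)⁻¹ * (n : G)⁻¹ * n' * n = ((n : G) * n')⁻¹ * ((n' : G) * n) by group] at h }
  let π : (P : Subgroup G) →* (P : Subgroup G) ⧸ A' := QuotientGroup.mk' A'
  let v : (P : Subgroup G) ⧸ A' := π ⟨z₀, hSP D.z_mem⟩
  have hv7 : v ^ 7 = 1 := by
    rw [← map_pow, show (⟨z₀, hSP D.z_mem⟩ : (P : Subgroup G)) ^ 7 = 1 from Subtype.ext D.z_pow, map_one]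
  have hv1 : v ≠ 1 := fun e => by
    have h := mem_subgroupOf.1 ((QuotientGroup.eq_one_iff _).1 e)
    have h2 := D.disj h
    rw [D.xpow_eq_one] at h2
    have := D.two_le
    exact absurd ((Nat.pow_dvd_pow_iff_le_right (by norm_num : 1 < 7)).1 h2) (by omega)
  -- the values at the fixed points of `z`
  let ψ : G ⧸ (P : Subgroup G) → (P : Subgroup G) ⧸ A' := fun q =>
    if h : z₀ • q = q then π ⟨q.out⁻¹ * z₀ * q.out, out_conj_mem q h⟩ else 1
  have hψg : ∀ (g : G) (hg : g⁻¹ * z₀ * g ∈ (P : Subgroup G)), ψ (g : G ⧸ (P : Subgroup G)) = π ⟨g⁻¹ * z₀ * g, hg⟩ := by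
    intro g hg
    have hfix : z₀ • (g : G ⧸ (P : Subgroup G)) = (g : G ⧸ (P : Subgroup G)) := by
      rw [← MulAction.Quotient.coe_smul_out, QuotientGroup.eq]
      obtain ⟨p, hp⟩ := QuotientGroup.mk_out_eq_mul (P : Subgroup G) g
      rw [hp, smul_eq_mul, show (z₀ * (g * (p : G)))⁻¹ * g = (p : G)⁻¹ * (g⁻¹ * z₀ * g)⁻¹ by group]
      exact mul_mem (inv_mem p.2) (inv_mem hg)
    simp only [ψ, dif_pos hfix]
    obtain ⟨p, hp⟩ := QuotientGroup.mk_out_eq_mul (P : Subgroup G) g
    rw [show (⟨(g : G ⧸ (P : Subgroup G)).out⁻¹ * z₀ * (g : G ⧸ (P : Subgroup G)).out, out_conj_mem _ hfix⟩ :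
      (P : Subgroup G)) = p⁻¹ * ⟨g⁻¹ * z₀ * g, hg⟩ * p from Subtype.ext (by simp [hp]; group), map_mul, map_mul,
      map_inv, mul_comm (π p)⁻¹, inv_mul_cancel_right]
  have hψ7 : ∀ q, ψ q ^ 7 = 1 := fun q => by
    simp only [ψ]
    split_ifs with h
    · rw [← map_pow, show (⟨q.out⁻¹ * z₀ * q.out, out_conj_mem q h⟩ : (P : Subgroup G)) ^ 7 = 1 from Subtype.ext (by
        show (q.out⁻¹ * z₀ * q.out) ^ 7 = 1
        have := conj_pow (a := q.out⁻¹) (b := z₀) (i := 7)
        rw [inv_inv, D.z_pow] at this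
        rw [this]; group), map_one]
    · rw [one_pow]
  -- the transfer
  letI := (P : Subgroup G).fintypeQuotientOfFiniteIndex
  have hT : MonoidHom.transfer π z₀ = ∏ q, ψ q := by
    rw [MonoidHom.transfer_eq_prod_quotient_orbitRel_zpowers_quot]
    refine Finset.prod_bij_ne_one (fun ω _ _ => ω.out) (fun _ _ _ => Finset.mem_univ _) ?_ ?_ ?_
    · intro ω _ _ ω' _ _ e
      rw [← Quotient.out_eq ω, ← Quotient.out_eq ω', e]
    · intro q _ hq
      have hfix : z₀ • q = q := by
        by_contra h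
        exact hq (by simp only [ψ, dif_neg h])
      set ω : Quotient (orbitRel (zpowers z₀) (G ⧸ (P : Subgroup G))) := Quotient.mk'' q with hω
      have hout : ω.out = q := by
        obtain ⟨⟨k, hk⟩, hkq⟩ := (Quotient.mk_out q : orbitRel (zpowers z₀) (G ⧸ (P : Subgroup G)) _ q)
        obtain ⟨j, rfl⟩ := hk
        rw [hω]
        refine hkq.symm.trans ?_
        exact (show (z₀ ^ j) • q = q from (MulAction.mem_stabilizer_iff.1
          (zpow_mem (MulAction.mem_stabilizer_iff.2 hfix) j)))
      refine ⟨ω, Finset.mem_univ _, ?_, hout⟩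
      intro e
      refine hq ?_
      have hper : Function.minimalPeriod (z₀ • ·) ω.out = 1 := by
        rw [Function.minimalPeriod_eq_one_iff_isFixedPt, hout]; exact hfix
      rw [← e]
      simp only [ψ, dif_pos hfix]
      congr 1
      have hperq : Function.minimalPeriod (z₀ • ·) q = 1 := by rwa [hout] at hper
      exact Subtype.ext (by simp [hperq, hout])
    · intro ω _ hne
      have hper : Function.minimalPeriod (z₀ • ·) ω.out = 1 := by
        have hd : Function.minimalPeriod (z₀ • ·) ω.out ∣ 7 := by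
          refine Function.IsPeriodicPt.minimalPeriod_dvd ?_
          show (fun q => z₀ • q)^[7] ω.out = ω.out
          have hk : ∀ k : ℕ, (fun q => z₀ • q)^[k] ω.out = z₀ ^ k • ω.out := fun k => by
            induction k with
            | zero => simp
            | succ k ih => rw [Function.iterate_succ_apply', ih, pow_succ', mul_smul]
          rw [hk, D.z_pow, one_smul]
        rcases (Nat.dvd_prime card_seven).1 hd with h | h
        · exact h
        · exfalso
          refine hne ?_
          rw [show (⟨ω.out.out⁻¹ * z₀ ^ Function.minimalPeriod (z₀ • ·) ω.out * ω.out.out, _⟩ : (P : Subgroup G)) = 1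
            from Subtype.ext (by simp [h, D.z_pow]), map_one]
      have hfix : z₀ • ω.out = ω.out := Function.minimalPeriod_eq_one_iff_isFixedPt.1 hper
      simp only [ψ, dif_pos hfix]
      congr 1
      exact Subtype.ext (by simp [hper])
  -- the values at the fixed points of `S`
  have hinv : ∀ (s : S₀) (q : G ⧸ (P : Subgroup G)), ψ (s • q) = ψ q := by
    intro s q
    induction q using QuotientGroup.induction_on with | H g => ?_
    show ψ (((s : G) * g : G) : G ⧸ (P : Subgroup G)) = ψ (g : G ⧸ (P : Subgroup G))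
    have e : ((s : G) * g)⁻¹ * z₀ * ((s : G) * g) = g⁻¹ * z₀ * g := by
      calc ((s : G) * g)⁻¹ * z₀ * ((s : G) * g) = g⁻¹ * ((s : G)⁻¹ * (z₀ * s)) * g := by group
        _ = _ := by rw [(D.z_comm s.2).eq]; group
    by_cases hg : g⁻¹ * z₀ * g ∈ (P : Subgroup G)
    · rw [hψg g hg, hψg _ (e.symm ▸ hg)]
      congr 1
      exact Subtype.ext e
    · have hno : ∀ g' : G, ¬ g'⁻¹ * z₀ * g' ∈ (P : Subgroup G) → ψ (g' : G ⧸ (P : Subgroup G)) = 1 := by
        intro g' hg'
        simp only [ψ]
        split_ifs with h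
        · exfalso
          obtain ⟨p, hp⟩ := QuotientGroup.mk_out_eq_mul (P : Subgroup G) g'
          have hm := out_conj_mem _ h
          rw [hp] at hm
          refine hg' ?_
          rw [show g'⁻¹ * z₀ * g' = (p : G) * ((g' * p)⁻¹ * z₀ * (g' * p)) * (p : G)⁻¹ by group]
          exact mul_mem (mul_mem p.2 hm) (inv_mem p.2)
        · rfl
      rw [hno g hg, hno _ (e.symm ▸ hg)]
  have hfixv : ∀ q, (∀ s : S₀, s • q = q) → ψ q = v := by
    intro q hq
    set g := q.out with hg
    have hmem : ∀ s ∈ S₀, g⁻¹ * s * g ∈ (P : Subgroup G) := fun s hs => out_conj_mem q (hq ⟨s, hs⟩)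
    have hzg := hmem _ D.z_mem
    rw [show q = (g : G ⧸ (P : Subgroup G)) from (QuotientGroup.out_eq' q).symm, hψg g hzg]
    obtain ⟨e, he⟩ := D.conj_cases P.2 hSP hN (g := g⁻¹) (by rw [inv_inv]; exact hzg) (by
      refine le_trans (le_of_eq ?_) (card_le_of_le (show (S₀).map (MulAut.conj g⁻¹).toMonoidHom ≤ _ from ?_))
      · rw [card_map_of_injective (MulAut.conj g⁻¹).injective, D.card_S]
      · rintro _ ⟨s, hs, rfl⟩
        refine ⟨?_, mem_centralizer_singleton_iff.2 ?_⟩
        · show g⁻¹ * s * g⁻¹⁻¹ ∈ (P : Subgroup G)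
          rw [inv_inv]; exact hmem s hs
        exact ((Commute.conj_iff g⁻¹).2 (D.z_comm hs).symm).eq)
    rw [inv_inv] at he
    show π _ = π _
    refine QuotientGroup.eq.2 (mem_subgroupOf.2 ?_)
    push_cast
    rw [he, mul_inv_rev, mul_assoc, inv_mul_cancel, mul_one]
    exact inv_mem (pow_mem D.yA e)
  have hne : MonoidHom.transfer π z₀ ≠ 1 := by
    rw [hT, prod_invariant (K := S₀) D.pGroup_S ψ hinv hψ7 hfixv hv7, ← Subgroup.index_eq_card]
    intro e
    have hd := orderOf_dvd_of_pow_eq_one e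
    rw [orderOf_eq_prime hv7 hv1] at hd
    exact P.not_dvd_index hd
  rcases (MonoidHom.transfer π).normal_ker.eq_bot_or_eq_top with hk | hk
  · refine hnab ⟨⟨fun a b => ?_⟩⟩
    exact (MonoidHom.ker_eq_bot_iff _).1 hk (by rw [map_mul, map_mul, mul_comm])
  · exact hne (MonoidHom.mem_ker.1 (hk ▸ mem_top z₀))

end SData

end Cfsg.Lib.Ree.SevenPow
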