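import Cfsg.Agent.Ree.SevenPow.Data
import Cfsg.Agent.Ree.SevenPow.Transfer

/-!
The case `q₁ = 3`, `r = 7`, `49 ∣ |x|`: `Cfsg.Lib.Ree.Field.SevenPowSpec`.
-/

set_option autoImplicit false
set_option linter.unusedSectionVars false
set_option linter.style.haveILetI false

namespace Cfsg.Lib.Ree.Twist

open Subgroup

universe u

variable {G : Type u} [Group G] [Finite G] {t : G} {E E₀ : Subgroup G} {F : Type} [Field F] [Fintype F]
  (S : Setting t E E₀ F) {T : Sylow 2 G} {a b n : G} (hy : AbCentMax.Sys t E₀ T a b n)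
include S hy

/-- The contradiction for an element of `Phi` of order `7 ^ i`, `i ≥ 2`, with fixed field of 3 elements. -/
theorem Setting.seven_kill (hind : Field.NoFieldBelow.{u} (Nat.card G)) {x : G} (hx : x ∈ S.Phi hy) {i : ℕ}
    (hi : 2 ≤ i) (hxo : orderOf x = 7 ^ i) {L : Type} [Field L] [Fintype L]
    (hL : Fintype.card L ^ orderOf x = Fintype.card F)
    (e : ↥(E₀ ⊓ centralizer ({x} : Set G)) ≃* Matrix.ProjectiveSpecialLinearGroup (Fin 2) L)
    (h3 : Fintype.card L = 3) : False := by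
  classical
  haveI := S.simple
  have hx1 : x ≠ 1 := fun h => by
    rw [h, orderOf_one] at hxo
    exact absurd hxo.symm (Nat.one_lt_pow (by omega) (by norm_num)).ne'
  have hF : Fintype.card F = 3 ^ 7 ^ i := by rw [← hL, h3, hxo]
  have hrel : E₀.relIndex E = 7 ^ i := by
    haveI : Fact (Nat.Prime 3) := ⟨Nat.prime_three⟩
    refine Nat.dvd_antisymm (S.relIndex_dvd hF) ?_
    rw [← S.card_Phi hy, ← hxo]
    exact Subgroup.orderOf_dvd_natCard _ hx
  -- the centralizer of `x`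
  set N := (zpowers x).subgroupOf (centralizer ({x} : Set G)) with hN
  haveI : N.Normal := ⟨fun z hz g => by
    obtain ⟨j, hj⟩ := mem_subgroupOf.1 hz
    refine mem_subgroupOf.2 ⟨j, ?_⟩
    show x ^ j = (g : G) * z * (g : G)⁻¹
    rw [← hj, ((show Commute (g : G) x from mem_centralizer_singleton_iff.1 g.2).zpow_right j).eq,
      mul_inv_cancel_right]⟩
  let P : Proj x (↥(centralizer ({x} : Set G)) ⧸ N) :=
    ⟨QuotientGroup.mk' N, QuotientGroup.mk'_surjective N, QuotientGroup.ker_mk' N⟩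
  have hinv : Field.invCount x = 7 ∨ Field.invCount x = 63 := by
    rcases S.shape P hy hx hind hx1 hL e with ⟨-, h⟩ | ⟨h5, -⟩
    · exact h
    · omega
  have hE : Nat.card ↥(E₀ ⊓ centralizer ({x} : Set G)) = 12 := by
    have hP := Cfsg.Lib.PSLTwoDihedral.card_P (F := L) (by rw [h3])
    rw [← Nat.card_congr e.toEquiv, h3] at hP
    norm_num [-Subgroup.mem_inf] at hP
    omega
  have hCx : Nat.card (centralizer ({x} : Set G)) = Field.invCount x * 24 * 7 ^ i := by
    rw [S.card_cent_x hy hx, hrel, hE]; ring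
  have hx7 : ∀ p : ℕ, p.Prime → p ∣ Nat.card (centralizer ({x} : Set G)) → p = 2 ∨ p = 3 ∨ p = 7 := by
    intro p hp hpd
    rw [hCx] at hpd
    have h7 : Nat.Prime 7 := by norm_num
    have hd : p ∣ 2 * (3 * 7) := by
      rcases hp.dvd_mul.1 hpd with h | h
      · rcases hinv with hc | hc <;> rw [hc] at h
        · rcases hp.dvd_mul.1 h with h | h
          · exact h.trans (by norm_num)
          · rcases hp.dvd_mul.1 (show p ∣ 2 ^ 3 * 3 from h) with h | h
            · exact (hp.dvd_of_dvd_pow h).trans (by norm_num)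
            · exact h.trans (by norm_num)
        · rcases hp.dvd_mul.1 h with h | h
          · rcases hp.dvd_mul.1 (show p ∣ 3 ^ 2 * 7 from h) with h | h
            · exact (hp.dvd_of_dvd_pow h).trans (by norm_num)
            · exact h.trans (by norm_num)
          · rcases hp.dvd_mul.1 (show p ∣ 2 ^ 3 * 3 from h) with h | h
            · exact (hp.dvd_of_dvd_pow h).trans (by norm_num)
            · exact h.trans (by norm_num)
      · exact (hp.dvd_of_dvd_pow h).trans (by norm_num)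
    rcases hp.dvd_mul.1 hd with h | h
    · exact Or.inl ((Nat.prime_dvd_prime_iff_eq hp Nat.prime_two).1 h)
    · rcases hp.dvd_mul.1 h with h | h
      · exact Or.inr (Or.inl ((Nat.prime_dvd_prime_iff_eq hp Nat.prime_three).1 h))
      · exact Or.inr (Or.inr ((Nat.prime_dvd_prime_iff_eq hp h7).1 h))
  have hCx7 : ¬ 7 ^ (i + 2) ∣ Nat.card (centralizer ({x} : Set G)) := by
    rw [hCx, pow_add, mul_comm (7 ^ i)]
    intro h
    have h49 := Nat.dvd_of_mul_dvd_mul_right (pow_pos (by norm_num) i) h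
    rcases hinv with hc | hc <;> rw [hc] at h49 <;> norm_num at h49
  obtain ⟨y, c, k, m, hyo, hyn, hyx, hcx, hc3, hcy, hk⟩ := S.seven_weight hy hx (by omega) hxo hrel hL e h3
  -- the centralizer of the element of order 7
  have quot : ∀ d : ℕ, 1 ≤ d → d < i → ∃ (X : Type u) (_ : Group X), Nonempty (Proj (x ^ 7 ^ d) X) := by
    intro d _ _
    set N' := (zpowers (x ^ 7 ^ d)).subgroupOf (centralizer ({x ^ 7 ^ d} : Set G)) with hN'
    haveI : N'.Normal := ⟨fun w hw g => by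
      obtain ⟨j, hj⟩ := mem_subgroupOf.1 hw
      refine mem_subgroupOf.2 ⟨j, ?_⟩
      show (x ^ 7 ^ d) ^ j = (g : G) * w * (g : G)⁻¹
      rw [← hj, ((show Commute (g : G) (x ^ 7 ^ d) from mem_centralizer_singleton_iff.1 g.2).zpow_right j).eq,
        mul_inv_cancel_right]⟩
    exact ⟨_, inferInstance, ⟨⟨QuotientGroup.mk' N', QuotientGroup.mk'_surjective N', QuotientGroup.ker_mk' N'⟩⟩⟩
  obtain ⟨X, iX, ⟨P'⟩⟩ := quot (i - 1) (by omega) (by omega)
  obtain ⟨L', iL', iLt', hL', M, iM, t', E', RS, hMn, hCz, hindex⟩ :=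
    S.seven_level hy hind hx hxo hF hrel (d := i - 1) (by omega) (by omega) P'
  haveI := hMn
  obtain ⟨X₁, iX₁, ⟨P₁⟩⟩ := quot 1 le_rfl (by omega)
  obtain ⟨L₁, iL₁, iLt₁, hL₁, M₁, iM₁, t₁, E₁, RS₁, -, hC₁, -⟩ :=
    S.seven_level hy hind hx hxo hF hrel (d := 1) le_rfl (by omega) P₁
  obtain ⟨hA, hB, hD7⟩ := SevenPow.ree_seven (i - 1)
  rw [show i - 1 + 1 = i by omega] at hA
  rw [show i - 1 + 2 = i + 1 by omega] at hB
  obtain ⟨-, hB₁, -⟩ := SevenPow.ree_seven 1
  have hM : ∀ {M' : Type u} [Group M'] [Finite M'] {t' : M'} {E' : Subgroup M'} {K : Type} [Field K] [Fintype K]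
      {d : ℕ}, Ree.Setting t' E' K → Fintype.card K = 3 ^ 7 ^ d →
      Nat.card M' = (3 ^ 7 ^ d) ^ 3 * ((3 ^ 7 ^ d) ^ 3 + 1) * (3 ^ 7 ^ d - 1) := by
    intro M' _ _ t' E' K _ _ d R hK
    obtain ⟨m', -, hF', hM'⟩ := R.order_eq
    rw [← hF', hK] at hM'
    exact hM'
  have hMc := hM RS hL'
  have h3L : 3 ∣ Fintype.card L' := hL' ▸ dvd_pow_self 3 (pow_ne_zero _ (by norm_num))
  obtain ⟨A, β, D⟩ := SevenPow.exists_data P' M hi hxo hyo hyn hyx hcx hc3 hcy hk hindex (hMc ▸ hA) (hMc ▸ hB)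
    (D := Fintype.card L' ^ 2 - Fintype.card L' + 1) (fun p _ hpd => SevenPow.D_prime h3L hpd)
    (fun g hg hgo => by
      obtain ⟨h1, h2⟩ := SevenPow.cent_seven RS h3L (hL' ▸ hD7) (g := (⟨g, hg⟩ : M))
        (by rw [Subgroup.orderOf_mk, hgo])
      refine ⟨fun u hu hug => ?_, fun u hu v hv hug hvg => ?_⟩
      · rw [← Subgroup.orderOf_mk u hu]
        exact (Subgroup.orderOf_dvd_natCard _ (mem_centralizer_singleton_iff.2
          (show (⟨u, hu⟩ : M) * ⟨g, hg⟩ = ⟨g, hg⟩ * ⟨u, hu⟩ from Subtype.ext hug.eq))).trans h1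
      · exact congrArg Subtype.val
          (h2 ⟨u, hu⟩ ⟨v, hv⟩ (Subtype.ext hug.eq) (Subtype.ext hvg.eq)).eq)
    (fun g hg => S.norm_zpowers hy hx hg) (fun g hg => S.norm_zpowers hy (pow_mem hx _) hg) hx7 hCx7
    (by
      rw [hCz, hMc, show 7 ^ (2 * i + 1) = 7 ^ (i + 1) * 7 ^ i by rw [← pow_add]; congr 1; omega]
      exact fun h => hB (Nat.dvd_of_mul_dvd_mul_right (pow_pos (by norm_num) i) h))
    (by
      rw [pow_one] at hC₁
      rw [hC₁, hM RS₁ hL₁, show 7 ^ (i + 3) = 7 ^ (1 + 2) * 7 ^ i by rw [← pow_add]; congr 1; omega]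
      exact fun h => hB₁ (Nat.dvd_of_mul_dvd_mul_right (pow_pos (by norm_num) i) h))
  exact D.false S.nab

end Cfsg.Lib.Ree.Twist

namespace Cfsg.Lib.Ree.Field

open Subgroup

universe u

/-- The case left to the `r`-adic argument. -/
theorem sevenPowSpec : SevenPowSpec.{u} := by
  intro G _ _ t E E₀ F _ _ J hind T x F₁ _ _ hfe hld hdvd h3 h49
  have S := Twist.of_jr J
  haveI : Fact (Nat.Prime 2) := ⟨Nat.prime_two⟩
  obtain ⟨T', a, b, n, hy⟩ := AbCentMax.exists_sys S.hyp S.ab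
  -- move `x` to the Sylow subgroup of the frame
  set C := centralizer ({t} : Set G) with hC
  have hTC : ∀ (U : Sylow 2 G), t ∈ U → (U : Subgroup G) ≤ C := fun U hU z hz => by
    haveI := S.ab U
    exact mem_centralizer_singleton_iff.2
      (congrArg Subtype.val (mul_comm' (⟨z, hz⟩ : (U : Subgroup G)) ⟨t, hU⟩))
  obtain ⟨k, hk⟩ := MulAction.exists_smul_eq C (T.subtype (hTC T hfe.tT)) (T'.subtype (hTC T' hy.tT))
  set x' := (k : G) * x * (k : G)⁻¹ with hx'
  have hc' : ∀ z ∈ T', Commute x' z := fun z hz => by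
    have hz' : (⟨z, hTC T' hy.tT hz⟩ : C) ∈ ((k • T.subtype (hTC T hfe.tT) : Sylow 2 C) : Subgroup C) :=
      hk.symm ▸ hz
    obtain ⟨w, hw, hwz⟩ := hz'
    have h1 : (k : G) * (w : G) * (k : G)⁻¹ = z := congrArg Subtype.val hwz
    rw [← h1]
    exact (Commute.conj_iff (k : G)).2 (hfe.cT w hw)
  have hkt : (k : G) * t * (k : G)⁻¹ = t := by
    rw [(mem_centralizer_singleton_iff.1 k.2 : (k : G) * t = t * k), mul_inv_cancel_right]
  obtain ⟨d, hd, hkd⟩ := S.split (x := (k : G)) (mem_centralizer_singleton_iff.1 k.2).symm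
  have htd : ∀ z ∈ E, t * z * t⁻¹ = z := fun z hz => by rw [(S.hyp.comm z hz).eq, mul_inv_cancel_right]
  have hx'eq : x' = d * x * d⁻¹ := by
    rcases hkd with h | h
    · rw [hx', h]
    · rw [hx', h, show t * d * x * (t * d)⁻¹ = t * (d * x * d⁻¹) * t⁻¹ by group,
        htd _ (mul_mem (mul_mem hd hfe.mem) (inv_mem hd))]
  have hx'o : orderOf x' = orderOf x := by rw [hx', ← MulAut.conj_apply, MulEquiv.orderOf_eq]
  have hx'1 : x' ≠ 1 := fun h => hfe.ne (conj_eq_one_iff.1 h)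
  obtain ⟨i, hi⟩ := hfe.pow
  have hx'odd : Odd (orderOf x') := by
    rw [hx'o, hi]
    exact Odd.pow (by decide)
  have hxP : x' ∈ S.Phi hy := S.mem_Phi_of_cent hy hx'odd hc'
  obtain ⟨L, iL, iLt, hL, ⟨e⟩⟩ := S.fixed hy hxP
  have hcount : invCount x' = invCount x := by
    refine Nat.card_congr
      { toFun := fun s => ⟨(k : G)⁻¹ * s.1 * k, ?_, ?_⟩
        invFun := fun s => ⟨(k : G) * s.1 * (k : G)⁻¹, ?_, ?_⟩
        left_inv := fun s => Subtype.ext (by group)
        right_inv := fun s => Subtype.ext (by group) }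
    · rw [show (k : G)⁻¹ * s.1 * k = MulAut.conj (k : G)⁻¹ s.1 by simp, MulEquiv.orderOf_eq, s.2.1]
    · have h := (Commute.conj_iff (k : G)⁻¹).2 (show Commute s.1 ((k : G) * x * (k : G)⁻¹) from s.2.2)
      rw [show (k : G)⁻¹ * ((k : G) * x * (k : G)⁻¹) * (k : G)⁻¹⁻¹ = x by group, inv_inv] at h
      exact h
    · rw [← MulAut.conj_apply, MulEquiv.orderOf_eq, s.2.1]
    · exact (Commute.conj_iff (k : G)).2 s.2.2
  have hcard : Fintype.card L = Fintype.card F₁ :=
    Nat.pow_left_injective (orderOf_pos x).ne' (show Fintype.card L ^ orderOf x = Fintype.card F₁ ^ orderOf x by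
      rw [← hld.card, ← hL, hx'o])
  obtain ⟨j, hj⟩ : ∃ j, orderOf x' = 7 ^ j := ⟨i, hx'o.trans hi⟩
  have hj2 : 2 ≤ j := by
    rw [← hx'o, hj, show 49 = 7 ^ 2 by norm_num] at h49
    exact (Nat.pow_dvd_pow_iff_le_right (by norm_num : 1 < 7)).1 h49
  exact S.seven_kill hy hind hxP hj2 hj hL e (hcard.trans h3)

end Cfsg.Lib.Ree.Field
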