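import Cfsg.Agent.PGroups.Basic

/-!
The local data of the case `q₁ = 3`, `r = 7`, `49 ∣ |x|`: a subgroup `S = ⟨x⟩ A`, `A` abelian of order `7 ^ i` with
`C_A(x) = ⟨y⟩`, and an element `c` centralizing `x` and raising `A` to a power `β`, `β² ≢ 1 (mod 7)`.
-/

set_option autoImplicit false
set_option linter.unusedSectionVars false

namespace Cfsg.Lib.Ree.SevenPow

open Subgroup

universe u

variable {G : Type u} [Group G]

/-- The subgroup `⟨x⟩ A`. -/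
def sSub (x : G) (A : Subgroup G) : Subgroup G := zpowers x ⊔ A

/-- The data. -/
structure SData (i : ℕ) (x y c : G) (A : Subgroup G) (β : ℕ) : Prop where
  two_le : 2 ≤ i
  xo : orderOf x = 7 ^ i
  yo : orderOf y = 7
  cx : Commute c x
  yA : y ∈ A
  yx : Commute y x
  comm : ∀ a ∈ A, ∀ a' ∈ A, Commute a a'
  cardA : Nat.card A = 7 ^ i
  wt : ∀ a ∈ A, c * a * c⁻¹ = a ^ β
  hβ : (β : ZMod 7) ^ 2 ≠ 1
  xA : ∀ a ∈ A, x * a * x⁻¹ ∈ A
  zA : ∀ a ∈ A, Commute (x ^ 7 ^ (i - 1)) a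
  fixA : ∀ a ∈ A, Commute a x → a ∈ zpowers y
  norm : ∀ g : G, g * x ^ 7 ^ (i - 1) * g⁻¹ ∈ zpowers (x ^ 7 ^ (i - 1)) →
    g * x ^ 7 ^ (i - 1) * g⁻¹ = x ^ 7 ^ (i - 1)
  cz : ¬ 7 ^ (2 * i + 1) ∣ Nat.card (centralizer ({x ^ 7 ^ (i - 1)} : Set G))
  c7 : ¬ 7 ^ (i + 3) ∣ Nat.card (centralizer ({x ^ 7} : Set G))
  fixW : ∀ h : G, Commute h (x ^ 7 ^ (i - 1)) → Commute h y → (∀ s ∈ sSub x A, h * s * h⁻¹ ∈ sSub x A) →
    h ∈ sSub x A

/-- Powers of a conjugation. -/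
theorem conj_pow_mem {B : Subgroup G} {x : G} (hB : ∀ b ∈ B, x * b * x⁻¹ ∈ B) (k : ℕ) {b : G} (hb : b ∈ B) :
    x ^ k * b * (x ^ k)⁻¹ ∈ B := by
  induction k with
  | zero => simpa using hb
  | succ k ih =>
    have := hB _ ih
    rwa [show x * (x ^ k * b * (x ^ k)⁻¹) * x⁻¹ = x ^ (k + 1) * b * (x ^ (k + 1))⁻¹ by rw [pow_succ']; group] at this

/-- Membership in `⟨x⟩ B`. -/
theorem mem_join [Finite G] {B : Subgroup G} {x : G} (hB : ∀ b ∈ B, x * b * x⁻¹ ∈ B) {s : G} :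
    s ∈ zpowers x ⊔ B ↔ ∃ k : ℕ, ∃ b ∈ B, s = x ^ k * b := by
  refine ⟨fun hs => ?_, ?_⟩
  · have hn : zpowers x ≤ normalizer (B : Set G) := by
      refine zpowers_le.2 (mem_normalizer_iff.2 fun b => ⟨hB b, fun hb => ?_⟩)
      have h := conj_pow_mem hB (orderOf x - 1) hb
      have e : x ^ (orderOf x - 1) = x⁻¹ := by
        rw [eq_inv_iff_mul_eq_one, ← pow_succ, show orderOf x - 1 + 1 = orderOf x by
          have := orderOf_pos x; omega, pow_orderOf_eq_one]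
      rw [e] at h
      rwa [show x⁻¹ * (x * b * x⁻¹) * x⁻¹⁻¹ = b by group] at h
    rw [← SetLike.mem_coe, coe_mul_of_left_le_normalizer_right (zpowers x) B hn] at hs
    obtain ⟨u, hu, b, hb, rfl⟩ := hs
    obtain ⟨k, hk⟩ := mem_powers_iff_mem_zpowers.2 hu
    exact ⟨k, b, hb, by rw [show x ^ k = u from hk]⟩
  · rintro ⟨k, b, hb, rfl⟩
    exact mul_mem (mem_sup_left (pow_mem (mem_zpowers x) k)) (mem_sup_right hb)

/-- An element of 7-power order fixed by a power map `β ≢ 1 (mod 7)` is trivial. -/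
theorem eq_one_of_pow_eq {s : G} {m β : ℕ} (hs : s ^ 7 ^ m = 1) (hfix : s ^ β = s) (hβ : (β : ZMod 7) ≠ 1) :
    s = 1 := by
  have hmod := pow_inj_mod.1 (show s ^ β = s ^ 1 by rw [hfix, pow_one])
  obtain ⟨j, -, hj⟩ := (Nat.dvd_prime_pow (by norm_num : (7 : ℕ).Prime)).1 (orderOf_dvd_of_pow_eq_one hs)
  refine orderOf_eq_one_iff.1 ?_
  rcases j with _ | j
  · rw [hj, pow_zero]
  refine absurd ?_ hβ
  have h7 : β % 7 = 1 % 7 := Nat.ModEq.of_dvd (hj ▸ dvd_pow_self 7 (Nat.succ_ne_zero j)) hmod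
  rw [← Nat.cast_one, ZMod.natCast_eq_natCast_iff]
  exact h7

/-- Over a smaller normal subgroup there is a central element. -/
theorem exists_next [Finite G] {p : ℕ} [Fact p.Prime] {P N M : Subgroup G} (hP : IsPGroup p P) (hMP : M ≤ P)
    (hlt : N < M) (hN : ∀ g ∈ P, ∀ u ∈ N, g * u * g⁻¹ ∈ N) (hM : ∀ g ∈ P, ∀ u ∈ M, g * u * g⁻¹ ∈ M) :
    ∃ v ∈ M, v ∉ N ∧ ∀ g ∈ P, g * v * g⁻¹ * v⁻¹ ∈ N := by
  classical
  set N' := N.subgroupOf P with hN'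
  haveI : N'.Normal := ⟨fun u hu g => mem_subgroupOf.2 (by push_cast; exact hN g g.2 u (mem_subgroupOf.1 hu))⟩
  haveI : (M.subgroupOf P).Normal :=
    ⟨fun u hu g => mem_subgroupOf.2 (by push_cast; exact hM g g.2 u (mem_subgroupOf.1 hu))⟩
  haveI : ((M.subgroupOf P).map (QuotientGroup.mk' N')).Normal :=
    Subgroup.Normal.map inferInstance _ (QuotientGroup.mk'_surjective N')
  obtain ⟨m, hmM, hmN⟩ := SetLike.exists_of_lt hlt
  have hne : (M.subgroupOf P).map (QuotientGroup.mk' N') ≠ ⊥ := fun h => by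
    have h1 : QuotientGroup.mk' N' (⟨m, hMP hmM⟩ : P) ∈ (M.subgroupOf P).map (QuotientGroup.mk' N') :=
      mem_map_of_mem _ (mem_subgroupOf.2 hmM)
    rw [h, mem_bot, QuotientGroup.mk'_apply, QuotientGroup.eq_one_iff] at h1
    exact hmN (mem_subgroupOf.1 h1)
  obtain ⟨_, ⟨w, hw, rfl⟩, hwc, hwo⟩ :=
    Cfsg.Lib.PGroups.exists_mem_center_of_normal_ne_bot (hP.to_quotient N') hne
  refine ⟨w, mem_subgroupOf.1 hw, fun h => ?_, fun g hg => ?_⟩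
  · rw [show QuotientGroup.mk' N' w = 1 from (QuotientGroup.eq_one_iff w).2 (mem_subgroupOf.2 h), orderOf_one] at hwo
    exact (Fact.out : p.Prime).ne_one hwo.symm
  · have h := Subgroup.mem_center_iff.1 hwc (QuotientGroup.mk' N' ⟨g, hg⟩)
    have h' : QuotientGroup.mk' N' (⟨g, hg⟩ * w * (⟨g, hg⟩ : P)⁻¹ * w⁻¹) = 1 := by
      rw [map_mul, map_mul, map_mul, map_inv, map_inv, h]; group
    exact mem_subgroupOf.1 ((QuotientGroup.eq_one_iff _).1 h')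

variable [Finite G] {i : ℕ} {x y c : G} {A : Subgroup G} {β : ℕ}

local notation "z₀" => x ^ 7 ^ (i - 1)
local notation "S₀" => sSub x A

namespace SData

variable (D : SData i x y c A β)
include D

theorem beta_ne : (β : ZMod 7) ≠ 1 := fun h => D.hβ (by rw [h, one_pow])

theorem beta_ne_zero : (β : ZMod 7) ≠ 0 := by
  intro h
  have h0 := (ZMod.natCast_eq_zero_iff β 7).1 h
  obtain ⟨j, rfl⟩ := h0
  have h1 : c * y * c⁻¹ = 1 := by rw [D.wt y D.yA, pow_mul, ← D.yo, pow_orderOf_eq_one, one_pow]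
  have h2 := D.yo
  rw [conj_eq_one_iff.1 h1, orderOf_one] at h2
  omega

theorem mem_S {s : G} : s ∈ S₀ ↔ ∃ k : ℕ, ∃ a ∈ A, s = x ^ k * a := mem_join D.xA

theorem xpow_mem (k : ℕ) : x ^ k ∈ S₀ := mem_sup_left (pow_mem (mem_zpowers x) k)

theorem A_le : A ≤ S₀ := le_sup_right

theorem z_mem : z₀ ∈ S₀ := D.xpow_mem _

theorem xconj (k : ℕ) {a : G} (ha : a ∈ A) : x ^ k * a * (x ^ k)⁻¹ ∈ A := conj_pow_mem D.xA k ha

theorem conj_S {s a : G} (hs : s ∈ S₀) (ha : a ∈ A) : s * a * s⁻¹ ∈ A := by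
  obtain ⟨k, b, hb, rfl⟩ := D.mem_S.1 hs
  rw [show x ^ k * b * a * (x ^ k * b)⁻¹ = x ^ k * (b * a * b⁻¹) * (x ^ k)⁻¹ by group]
  exact D.xconj k (mul_mem (mul_mem hb ha) (inv_mem hb))

theorem a_pow {a : G} (ha : a ∈ A) : a ^ 7 ^ i = 1 :=
  orderOf_dvd_iff_pow_eq_one.1 (D.cardA ▸ orderOf_dvd_natCard A ha)

theorem x_pow : x ^ 7 ^ i = 1 := by rw [← D.xo, pow_orderOf_eq_one]

theorem disj {k : ℕ} (h : x ^ k ∈ A) : x ^ k = 1 := by
  refine eq_one_of_pow_eq (D.a_pow h) ?_ D.beta_ne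
  rw [← D.wt _ h, (D.cx.pow_right k).eq, mul_inv_cancel_right]

theorem xpow_eq_one {k : ℕ} : x ^ k = 1 ↔ 7 ^ i ∣ k := by rw [← D.xo, orderOf_dvd_iff_pow_eq_one]

/-- The decomposition is unique. -/
theorem unique {k l : ℕ} {a b : G} (ha : a ∈ A) (hb : b ∈ A) (h : x ^ k * a = x ^ l * b) :
    x ^ k = x ^ l ∧ a = b := by
  have key : ∀ {k l : ℕ} {a b : G}, a ∈ A → b ∈ A → x ^ k * a = x ^ l * b → l ≤ k → x ^ k = x ^ l ∧ a = b := by
    intro k l a b ha hb h hle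
    obtain ⟨d, rfl⟩ := Nat.exists_eq_add_of_le hle
    rw [pow_add, mul_assoc, mul_right_inj] at h
    have hd : x ^ d = 1 := D.disj (by rw [show x ^ d = b * a⁻¹ by rw [← h]; group]; exact mul_mem hb (inv_mem ha))
    exact ⟨by rw [pow_add, hd, mul_one], by rwa [hd, one_mul] at h⟩
  rcases le_total l k with hle | hle
  · exact key ha hb h hle
  · exact (key hb ha h.symm hle).imp Eq.symm Eq.symm

theorem card_S : Nat.card S₀ = 7 ^ (2 * i) := by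
  have e := Nat.card_eq_of_bijective (fun w : zpowers x × A =>
    (⟨(w.1 : G) * w.2, mul_mem (mem_sup_left w.1.2) (mem_sup_right w.2.2)⟩ : ↥(sSub x A))) ⟨?_, ?_⟩
  · rw [← e, Nat.card_prod, Nat.card_zpowers, D.xo, D.cardA, ← pow_add, two_mul]
  · rintro ⟨⟨u, hu⟩, a⟩ ⟨⟨v, hv⟩, b⟩ h
    obtain ⟨k, hk⟩ := mem_powers_iff_mem_zpowers.2 hu
    obtain ⟨l, hl⟩ := mem_powers_iff_mem_zpowers.2 hv
    have h' := congrArg Subtype.val h
    simp only at h' hk hl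
    subst hk hl
    obtain ⟨e1, e2⟩ := D.unique a.2 b.2 h'
    exact Prod.ext (Subtype.ext e1) (Subtype.ext e2)
  · rintro ⟨s, hs⟩
    obtain ⟨k, a, ha, rfl⟩ := D.mem_S.1 hs
    exact ⟨(⟨x ^ k, pow_mem (mem_zpowers x) k⟩, ⟨a, ha⟩), rfl⟩

theorem pGroup_S : IsPGroup 7 S₀ := IsPGroup.of_card D.card_S

theorem z_pow : z₀ ^ 7 = 1 := by
  rw [← pow_mul, ← pow_succ, show i - 1 + 1 = i by have := D.two_le; omega, D.x_pow]

theorem y_pow : y ^ 7 = 1 := by rw [← D.yo, pow_orderOf_eq_one]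

theorem z_comm {s : G} (hs : s ∈ S₀) : Commute z₀ s := by
  obtain ⟨k, a, ha, rfl⟩ := D.mem_S.1 hs
  exact (Commute.pow_pow_self x _ k).mul_right (D.zA a ha)

theorem y_comm {s : G} (hs : s ∈ S₀) : Commute y s := by
  obtain ⟨k, a, ha, rfl⟩ := D.mem_S.1 hs
  exact (D.yx.pow_right k).mul_right (D.comm y D.yA a ha)

theorem c_z : Commute c z₀ := D.cx.pow_right _

theorem c_y : c * y * c⁻¹ = y ^ β := D.wt y D.yA

theorem zy_comm : Commute z₀ y := D.zA y D.yA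

theorem coord {a b a' b' : ℕ} (h : z₀ ^ a * y ^ b = z₀ ^ a' * y ^ b') :
    (a : ZMod 7) = a' ∧ (b : ZMod 7) = b' := by
  rw [← pow_mul, ← pow_mul] at h
  obtain ⟨e1, e2⟩ := D.unique (pow_mem D.yA b) (pow_mem D.yA b') h
  constructor
  · rw [pow_eq_pow_iff_modEq, D.xo, show 7 ^ i = 7 ^ (i - 1) * 7 by
      rw [← pow_succ, show i - 1 + 1 = i by have := D.two_le; omega]] at e1
    rw [ZMod.natCast_eq_natCast_iff]
    exact Nat.ModEq.mul_left_cancel' (pow_ne_zero _ (by norm_num)) e1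
  · rw [pow_eq_pow_iff_modEq, D.yo] at e2
    rwa [ZMod.natCast_eq_natCast_iff]

/-- A power of `z` times a power of `y` depends on the exponents modulo 7. -/
theorem zy_congr {a b a' b' : ℕ} (ha : (a : ZMod 7) = a') (hb : (b : ZMod 7) = b') :
    z₀ ^ a * y ^ b = z₀ ^ a' * y ^ b' := by
  rw [ZMod.natCast_eq_natCast_iff] at ha hb
  have hz : orderOf z₀ ∣ 7 := orderOf_dvd_of_pow_eq_one D.z_pow
  rw [pow_eq_pow_iff_modEq.2 (ha.of_dvd hz), pow_eq_pow_iff_modEq.2 (show b ≡ b' [MOD orderOf y] by rw [D.yo]; exact hb)]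

theorem zy_mul (a b a' b' : ℕ) : z₀ ^ a * y ^ b * (z₀ ^ a' * y ^ b') = z₀ ^ (a + a') * y ^ (b + b') := by
  rw [(D.zy_comm.symm.pow_pow b a').mul_mul_mul_comm, pow_add, pow_add]

theorem zy_pow (a b k : ℕ) : (z₀ ^ a * y ^ b) ^ k = z₀ ^ (a * k) * y ^ (b * k) := by
  rw [(D.zy_comm.pow_pow a b).mul_pow, ← pow_mul (x ^ 7 ^ (i - 1)), ← pow_mul y]

/-- The central elements of exponent 7 of `S`. -/
theorem mem_W {s : G} (hs : s ∈ S₀) (hx : Commute s x) (h7 : s ^ 7 = 1) :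
    ∃ a b : ℕ, s = z₀ ^ a * y ^ b := by
  obtain ⟨k, w, hw, rfl⟩ := D.mem_S.1 hs
  have hwx : Commute w x := by
    have := ((Commute.pow_self x k).inv_left).mul_left hx
    rwa [inv_mul_cancel_left] at this
  obtain ⟨b, hb⟩ := mem_powers_iff_mem_zpowers.2 (D.fixA w hw hwx)
  simp only at hb
  have hk : x ^ (k * 7) = 1 := by
    have hc : Commute (x ^ k) w := (hwx.pow_right k).symm
    rw [hc.mul_pow, ← hb, ← pow_mul, ← pow_mul, mul_comm b, pow_mul y, D.y_pow, one_pow, mul_one] at h7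
    exact h7
  rw [D.xpow_eq_one, show 7 ^ i = 7 ^ (i - 1) * 7 by
    rw [← pow_succ, show i - 1 + 1 = i by have := D.two_le; omega]] at hk
  obtain ⟨a, ha⟩ := Nat.dvd_of_mul_dvd_mul_right (by norm_num : 0 < 7) hk
  exact ⟨a, b, by rw [← hb, ← pow_mul, ← ha]⟩

/-- The image of an element of `W` under an element normalizing `S`. -/
theorem conj_W {g : G} (hg : ∀ s ∈ S₀, g * s * g⁻¹ ∈ S₀) {w : G} (hw : w ∈ S₀)
    (hwc : ∀ s ∈ S₀, Commute w s) (hw7 : w ^ 7 = 1) : ∃ a b : ℕ, g * w * g⁻¹ = z₀ ^ a * y ^ b := by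
  refine D.mem_W (hg w hw) ?_ (by rw [conj_pow, hw7]; group)
  have hx : x ∈ S₀ := by simpa using D.xpow_mem 1
  have hb : ∀ s ∈ S₀, ∃ v ∈ S₀, g * v * g⁻¹ = s := by
    intro s hs
    have hle : (S₀).map (MulAut.conj g).toMonoidHom ≤ S₀ := by rintro _ ⟨v, hv, rfl⟩; exact hg v hv
    have heq := Subgroup.eq_of_le_of_card_ge hle (by rw [card_map_of_injective (MulAut.conj g).injective])
    rw [← heq] at hs
    obtain ⟨v, hv, rfl⟩ := hs
    exact ⟨v, hv, rfl⟩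
  obtain ⟨v, hv, hvx⟩ := hb x hx
  rw [← hvx]
  exact (Commute.conj_iff g).2 (hwc v hv)

/-- No conjugate of `z` is a power of `y`. -/
theorem not_mem_y (g : G) : g * z₀ * g⁻¹ ∉ zpowers y := by
  intro h
  obtain ⟨j, hj⟩ := mem_powers_iff_mem_zpowers.2 h
  simp only at hj
  have h1 : (g⁻¹ * c * g) * z₀ * (g⁻¹ * c * g)⁻¹ = z₀ ^ β := by
    calc (g⁻¹ * c * g) * z₀ * (g⁻¹ * c * g)⁻¹ = g⁻¹ * (c * (g * z₀ * g⁻¹) * c⁻¹) * g := by group
      _ = g⁻¹ * ((g * z₀ * g⁻¹) ^ β) * g := by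
        rw [← hj, ← conj_pow, D.c_y, ← pow_mul, ← pow_mul, mul_comm]
      _ = z₀ ^ β := by rw [conj_pow]; group
  have h2 := D.norm _ (h1 ▸ pow_mem (mem_zpowers _) β)
  rw [h1] at h2
  obtain ⟨e, -⟩ := D.coord (a := β) (b := 0) (a' := 1) (b' := 0) (by rw [h2]; simp)
  exact D.beta_ne (by simpa using e)

end SData

end Cfsg.Lib.Ree.SevenPow
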