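import Cfsg.Agent.Ree.Transfer.SmallKill
import Cfsg.Agent.ReeAbelian.Local
import Cfsg.Agent.Ree.Real.Main
import Mathlib.GroupTheory.FixedPointFree

/-!
The centralizers of the powers `x ^ 7 ^ d` and, in a group of Janko–Ree type over `GF(3 ^ 7 ^ d)`, of the elements of
order 7.
-/

set_option autoImplicit false
set_option linter.unusedSectionVars false
set_option linter.style.haveILetI false

namespace Cfsg.Lib.Ree.SevenPow

open Subgroup

universe u

/-- The 7-part of `27 ^ 7 ^ j + 1`. -/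
theorem seven_part (j : ℕ) : ∃ u : ℕ, ¬ 7 ∣ u ∧ 27 ^ 7 ^ j + 1 = 7 ^ (j + 1) * u := by
  have key : ∀ j : ℕ, ∃ u : ℤ, ¬ (7 : ℤ) ∣ u ∧ (27 : ℤ) ^ 7 ^ j + 1 = 7 ^ (j + 1) * u := by
    intro j
    induction j with
    | zero => exact ⟨4, by norm_num, by norm_num⟩
    | succ j ih =>
      obtain ⟨u, hu, he⟩ := ih
      obtain ⟨w, hw⟩ : ∃ w : ℤ, w = 7 ^ j * u := ⟨_, rfl⟩
      have h1 : (27 : ℤ) ^ 7 ^ j = -1 + 7 * w := by rw [hw]; rw [pow_succ] at he; linarith
      set K : ℤ := 1 - 21 * w + 5 * 49 * w ^ 2 - 5 * 343 * w ^ 3 + 3 * 2401 * w ^ 4 - 16807 * w ^ 5 + 16807 * w ^ 6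
      refine ⟨u * K, fun hd => ?_, ?_⟩
      · rcases (Int.prime_iff_natAbs_prime.2 (by norm_num) : Prime (7 : ℤ)).dvd_or_dvd hd with h | h
        · exact hu h
        · have h7 : (7 : ℤ) ∣ K - 1 := ⟨-3 * w + 5 * 7 * w ^ 2 - 5 * 49 * w ^ 3 + 3 * 343 * w ^ 4 - 2401 * w ^ 5 +
            2401 * w ^ 6, by ring⟩
          have := h.sub h7
          norm_num at this
      · rw [pow_succ 7 j, pow_mul, h1, show (7 : ℤ) ^ (j + 1 + 1) * (u * K) = 49 * w * K by rw [hw]; ring]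
        ring
  obtain ⟨u, hu, he⟩ := key j
  have hu0 : 0 ≤ u := by
    by_contra hlt
    have h1 : (0 : ℤ) < 27 ^ 7 ^ j + 1 := by positivity
    have h2 : (0 : ℤ) < 7 ^ (j + 1) := by positivity
    nlinarith
  obtain ⟨n, rfl⟩ := Int.eq_ofNat_of_zero_le hu0
  exact ⟨n, fun h => hu (Int.natCast_dvd_natCast.2 h), by exact_mod_cast he⟩

theorem three_mod (d : ℕ) : ((3 ^ 7 ^ d : ℕ) : ZMod 7) = 3 := by
  induction d with
  | zero => norm_num
  | succ d ih => rw [pow_succ, pow_mul, Nat.cast_pow, ih]; decide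

/-- The 7-part of the order of the group of Ree type over `GF(3 ^ 7 ^ d)`. -/
theorem ree_seven (d : ℕ) :
    7 ^ (d + 1) ∣ (3 ^ 7 ^ d) ^ 3 * ((3 ^ 7 ^ d) ^ 3 + 1) * (3 ^ 7 ^ d - 1) ∧
    ¬ 7 ^ (d + 2) ∣ (3 ^ 7 ^ d) ^ 3 * ((3 ^ 7 ^ d) ^ 3 + 1) * (3 ^ 7 ^ d - 1) ∧
    7 ∣ (3 ^ 7 ^ d) ^ 2 - 3 ^ 7 ^ d + 1 := by
  have hp : Nat.Prime 7 := by norm_num
  obtain ⟨u, hu, he⟩ := seven_part d
  have h3 : (3 ^ 7 ^ d) ^ 3 = 27 ^ 7 ^ d := by rw [← pow_mul, mul_comm, pow_mul]; norm_num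
  rw [h3, he]
  have hz := three_mod d
  set Q := 3 ^ 7 ^ d with hQ
  have hQ1 : 1 ≤ Q := Nat.one_le_pow _ _ (by norm_num)
  refine ⟨Dvd.dvd.mul_right (Dvd.dvd.mul_left (Dvd.intro u rfl) _) _, fun h => ?_, ?_⟩
  · rw [show 27 ^ 7 ^ d * (7 ^ (d + 1) * u) * (Q - 1) = 7 ^ (d + 1) * (27 ^ 7 ^ d * u * (Q - 1)) by ring,
      show 7 ^ (d + 2) = 7 ^ (d + 1) * 7 from pow_succ 7 (d + 1)] at h
    rcases hp.dvd_mul.1 (Nat.dvd_of_mul_dvd_mul_left (pow_pos (by norm_num) _) h) with h | h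
    · rcases hp.dvd_mul.1 h with h | h
      · exact absurd (hp.dvd_of_dvd_pow h) (by norm_num)
      · exact hu h
    · have h' := (ZMod.natCast_eq_zero_iff (Q - 1) 7).2 h
      rw [Nat.cast_sub hQ1, hz] at h'
      rw [Nat.cast_one] at h'
      exact absurd h' (by decide)
  · rw [← ZMod.natCast_eq_zero_iff, Nat.cast_add, Nat.cast_sub (Nat.le_self_pow (by norm_num) Q), Nat.cast_pow, hz,
      Nat.cast_one]
    decide

/-- A prime dividing `Q ^ 2 - Q + 1` is neither 2 nor 3. -/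
theorem D_prime {Q p : ℕ} (hQ3 : 3 ∣ Q) (hp : p ∣ Q ^ 2 - Q + 1) : p ≠ 2 ∧ p ≠ 3 := by
  have e : Q ^ 2 - Q + 1 = Q * (Q - 1) + 1 := by rw [Nat.mul_sub_one, pow_two]
  rw [e] at hp
  refine ⟨?_, ?_⟩
  · rintro rfl
    have h : 2 ∣ Q * (Q - 1) := even_iff_two_dvd.1 (by
      rcases Nat.even_or_odd Q with h | h
      · exact h.mul_right _
      · exact (Nat.Odd.sub_odd h odd_one).mul_left _)
    exact absurd ((Nat.dvd_add_right h).1 hp) (by norm_num)
  · rintro rfl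
    exact absurd ((Nat.dvd_add_right (hQ3.mul_right _)).1 hp) (by norm_num)

/-- In a group of Janko–Ree type the centralizer of an element of order 7 dividing `q ^ 2 - q + 1` is abelian. -/
theorem cent_seven {M : Type u} [Group M] [Finite M] {t : M} {E : Subgroup M} {L : Type} [Field L] [Fintype L]
    (RS : Ree.Setting t E L) (h3 : 3 ∣ Fintype.card L) (h7 : 7 ∣ Fintype.card L ^ 2 - Fintype.card L + 1) {g : M}
    (hg : orderOf g = 7) :
    Nat.card (centralizer ({g} : Set M)) ∣ Fintype.card L ^ 2 - Fintype.card L + 1 ∧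
      ∀ u v : M, Commute u g → Commute v g → Commute u v := by
  classical
  have B := ReeAb.Base.of_setting RS
  set Q := Fintype.card L with hQ
  have hcard := B.cen_D (r := 7) (by norm_num) h7 hg
  refine ⟨hcard, ?_⟩
  obtain ⟨j, hjj, hjg⟩ := PiHomog.realProp M t E L RS 7 (by norm_num) h7 g hg
  have hj1 : j ≠ 1 := by
    intro e
    rw [e] at hjg
    simp at hjg
    have h2 : g ^ 2 = 1 := by rw [pow_two, mul_eq_one_iff_eq_inv]; exact hjg
    have := orderOf_dvd_of_pow_eq_one h2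
    rw [hg] at this
    norm_num at this
  haveI : Fact (Nat.Prime 2) := ⟨Nat.prime_two⟩
  have hj2 : orderOf j = 2 := orderOf_eq_prime (by rw [pow_two]; exact hjj) hj1
  obtain ⟨k, hk⟩ := B.exists_conj hj2
  set U := centralizer ({g} : Set M) with hU
  have hmem : ∀ u : M, u ∈ U → j * u * j⁻¹ ∈ U := fun u hu => by
    have h1 := (Commute.conj_iff j).2 (show Commute u g from mem_centralizer_singleton_iff.1 hu)
    rw [hjg] at h1
    exact mem_centralizer_singleton_iff.2 (by simpa using h1.inv_right.eq)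
  let φ : U →* U :=
    { toFun := fun u => ⟨j * u * j⁻¹, hmem u u.2⟩
      map_one' := Subtype.ext (by simp)
      map_mul' := fun u v => Subtype.ext (by simp [mul_assoc]) }
  have hinv : Function.Involutive φ := fun u => Subtype.ext (by
    show j * (j * u * j⁻¹) * j⁻¹ = u
    calc j * (j * u * j⁻¹) * j⁻¹ = (j * j) * u * (j * j)⁻¹ := by group
      _ = u := by rw [hjj]; group)
  have hfix : MonoidHom.FixedPointFree φ := by
    intro u hu
    refine Subtype.ext ?_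
    have hju : Commute j (u : M) := mul_inv_eq_iff_eq_mul.1 (congrArg Subtype.val hu)
    have hud : orderOf (u : M) ∣ Q ^ 2 - Q + 1 := (orderOf_dvd_natCard U u.2).trans hcard
    have hodd : Odd (orderOf (u : M)) := Nat.odd_iff.2 (by
      rcases Nat.mod_two_eq_zero_or_one (orderOf (u : M)) with h | h
      · exact absurd rfl (D_prime h3 ((Nat.dvd_of_mod_eq_zero h).trans hud)).1
      · exact h)
    have hut : Commute ((MulAut.conj k) (u : M)) t := hk ▸ (hju.symm.map (MulAut.conj k).toMonoidHom)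
    have huE : (MulAut.conj k) (u : M) ∈ E := B.odd_mem_E (by rw [MulEquiv.orderOf_eq]; exact hodd) hut
    have h2 : orderOf (u : M) ∣ Q * (Q ^ 2 - 1) := by
      rw [← B.card_E]
      exact ((((MulAut.conj k).orderOf_eq (u : M)).symm ▸ E.orderOf_dvd_natCard huE)).mul_left 2
    refine orderOf_eq_one_iff.1 (Nat.eq_one_iff_not_exists_prime_dvd.2 fun p hp hpd => ?_)
    obtain ⟨hp2, hp3⟩ := D_prime h3 (hpd.trans hud)
    have hpD := hpd.trans hud
    have hpQ := hpd.trans h2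
    have hQ1 : 1 ≤ Q := Fintype.card_pos
    have hq : ¬ p ∣ Q * (Q - 1) := fun h => by
      rw [show Q ^ 2 - Q + 1 = Q * (Q - 1) + 1 by rw [Nat.mul_sub_one, pow_two]] at hpD
      exact hp.not_dvd_one ((Nat.dvd_add_right h).1 hpD)
    rw [show Q * (Q ^ 2 - 1) = Q * (Q - 1) * (Q + 1) by
      rw [mul_assoc, mul_comm (Q - 1) (Q + 1), ← Nat.sq_sub_sq Q 1, one_pow]] at hpQ
    rcases hp.dvd_mul.1 hpQ with h | h
    · exact hq h
    · refine hp3 ((Nat.prime_dvd_prime_iff_eq hp Nat.prime_three).1 ?_)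
      have h1 : (p : ℤ) ∣ ((Q ^ 2 - Q + 1 : ℕ) : ℤ) := Int.natCast_dvd_natCast.2 hpD
      have h2' : (p : ℤ) ∣ ((Q + 1 : ℕ) : ℤ) := Int.natCast_dvd_natCast.2 h
      rw [Nat.cast_add, Nat.cast_sub (Nat.le_self_pow (by norm_num) Q)] at h1
      push_cast at h1 h2'
      have h3' := h1.sub (h2'.mul_right ((Q : ℤ) - 2))
      rw [show (Q : ℤ) ^ 2 - Q + 1 - (Q + 1) * (Q - 2) = ((3 : ℕ) : ℤ) by push_cast; ring] at h3'
      exact Int.natCast_dvd_natCast.1 h3'
  intro u v hu hv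
  exact congrArg Subtype.val (hfix.commute_all_of_involutive hinv ⟨u, mem_centralizer_singleton_iff.2 hu.eq⟩
    ⟨v, mem_centralizer_singleton_iff.2 hv.eq⟩).eq

end Cfsg.Lib.Ree.SevenPow

namespace Cfsg.Lib.Ree.Twist

open Subgroup

universe u

variable {G : Type u} [Group G] [Finite G] {t : G} {E E₀ : Subgroup G} {F : Type} [Field F] [Fintype F]
  (S : Setting t E E₀ F) {T : Sylow 2 G} {a b n : G} (hy : AbCentMax.Sys t E₀ T a b n)
include S hy

/-- The shape of `C(x ^ 7 ^ d)`. -/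
theorem Setting.seven_level (hind : Field.NoFieldBelow.{u} (Nat.card G)) {x : G} (hx : x ∈ S.Phi hy) {i : ℕ}
    (hxo : orderOf x = 7 ^ i) (hF : Fintype.card F = 3 ^ 7 ^ i) (hrel : E₀.relIndex E = 7 ^ i) {d : ℕ} (hd1 : 1 ≤ d)
    (hdi : d < i) {X : Type u} [Group X] (P : Proj (x ^ 7 ^ d) X) :
    ∃ (L : Type) (_ : Field L) (_ : Fintype L), Fintype.card L = 3 ^ 7 ^ d ∧ ∃ (M : Subgroup X) (_ : Finite M)
      (t' : M) (E' : Subgroup M), Ree.Setting t' E' L ∧ M.Normal ∧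
      Nat.card (centralizer ({x ^ 7 ^ d} : Set G)) = Nat.card M * 7 ^ i ∧ M.index = 7 ^ d := by
  haveI := P.finite
  set w := x ^ 7 ^ d with hw
  have hwP : w ∈ S.Phi hy := pow_mem hx _
  have hwo : orderOf w = 7 ^ (i - d) := by
    rw [hw, orderOf_pow' _ (pow_ne_zero _ (by norm_num)), hxo, Nat.gcd_eq_right (pow_dvd_pow 7 hdi.le),
      Nat.pow_div hdi.le (by norm_num)]
  have hw1 : w ≠ 1 := fun e => by
    rw [e, orderOf_one] at hwo
    exact absurd hwo.symm (Nat.one_lt_pow (by omega) (by norm_num)).ne'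
  obtain ⟨L, iL, iLt, hL, ⟨e⟩⟩ := S.fixed hy hwP
  have hcard : Fintype.card L = 3 ^ 7 ^ d := by
    refine Nat.pow_left_injective (orderOf_pos w).ne' ?_
    show Fintype.card L ^ orderOf w = (3 ^ 7 ^ d) ^ orderOf w
    rw [hL, hF, hwo, ← pow_mul, ← pow_add, show d + (i - d) = i by omega]
  have h27 : 27 ≤ Fintype.card L := by
    rw [hcard, show 27 = 3 ^ 3 by norm_num]
    exact Nat.pow_le_pow_right (by norm_num)
      (le_trans (by norm_num : 3 ≤ 7 ^ 1) (Nat.pow_le_pow_right (by norm_num) hd1))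
  rcases S.shape P hy hwP hind hw1 hL e with ⟨h, -⟩ | ⟨h5, M, D⟩
  · omega
  have hmod : Fintype.card L % 8 = 3 ∨ Fintype.card L % 8 = 5 := by
    rw [mod_eight_root hL (S.x_odd hy hwP) S.mod]; exact S.mod
  rcases D.count S hy hmod h5 with ⟨h', -, -⟩ | ⟨RS, m, -, hFm, hcount⟩
  · omega
  refine ⟨L, iL, iLt, hcard, M, inferInstance, _, _, RS, D.normal, ?_⟩
  obtain ⟨m', -, hF', hM⟩ := RS.order_eq
  rw [← hF'] at hM
  set Q := Fintype.card L
  have hP := Cfsg.Lib.PSLTwoDihedral.card_P (F := L) (Nat.odd_iff.1 (by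
    show Odd Q
    rw [hcard]; exact Odd.pow (by decide)))
  rw [← Nat.card_congr e.toEquiv] at hP
  have hC : Nat.card (centralizer ({w} : Set G)) = Nat.card M * 7 ^ i := by
    rw [S.card_cent_x hy hwP, hrel, S.count_quot P hy hwP, hcount, hM, ← mul_assoc 2, hP]
    have h1 : 1 ≤ Q ^ 2 := Nat.one_le_pow _ _ (by omega)
    have h2 : Q ≤ Q ^ 2 := Nat.le_self_pow (by norm_num) Q
    have key : Q ^ 3 * (Q ^ 3 + 1) * (Q - 1) = Q ^ 2 * (Q ^ 2 - Q + 1) * (Q * (Q ^ 2 - 1)) := by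
      zify [h1, h2, (by omega : 1 ≤ Q)]
      ring
    rw [key]; ring
  refine ⟨hC, ?_⟩
  have hX : Nat.card (centralizer ({w} : Set G)) = Nat.card X * orderOf w := by
    have h := P.π.ker.card_mul_index
    rw [Subgroup.index_ker, MonoidHom.range_eq_top.2 P.surj, Subgroup.card_top, P.ker,
      Nat.card_congr (subgroupOfEquivOfLe (zpowers_le.2 (mem_centralizer_singleton_iff.2 rfl))).toEquiv,
      Nat.card_zpowers, mul_comm] at h
    exact h.symm
  rw [hC, ← M.card_mul_index, hwo, mul_assoc] at hX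
  have h := Nat.eq_of_mul_eq_mul_left Nat.card_pos hX
  rw [show 7 ^ i = 7 ^ d * 7 ^ (i - d) by rw [← pow_add]; congr 1; omega] at h
  exact (Nat.eq_of_mul_eq_mul_right (pow_pos (by norm_num) _) h).symm

end Cfsg.Lib.Ree.Twist
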