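import Cfsg.Agent.Ree.SevenPow.Cent

/-!
An element of order 7 of `C(x)` outside `⟨x⟩` on which an element of `C(x)` of 3-power order has a weight `b`,
`b² ≢ 1 (mod 7)`.
-/

set_option autoImplicit false
set_option linter.unusedSectionVars false
set_option linter.style.haveILetI false

namespace Cfsg.Lib.Ree.SevenPow

open Subgroup

universe u

variable {G : Type u} [Group G] [Finite G]

/-- An element with a weight modulo `⟨x⟩`, `|x| = 7 ^ i`, gives one of order 7 with the same weight, under an element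
of 3-power order. -/
theorem lift_weight {x y c : G} {i k : ℕ} (hi : 1 ≤ i) (hxo : orderOf x = 7 ^ i) (hyx : Commute y x) (hcx : Commute c x)
    (hyn : y ∉ zpowers x) (hy7 : y ^ 7 ∈ zpowers x) (hk : (k : ZMod 7) ^ 2 ≠ 1)
    (hcy : (y ^ k)⁻¹ * (c * y * c⁻¹) ∈ zpowers x) :
    ∃ y' c' : G, ∃ b e : ℕ, orderOf y' = 7 ∧ y' ∉ zpowers x ∧ Commute y' x ∧ Commute c' x ∧ c' ^ 3 ^ e = 1 ∧
      c' * y' * c'⁻¹ = y' ^ b ∧ (b : ZMod 7) ^ 2 ≠ 1 := by
  haveI : Fact (Nat.Prime 7) := ⟨by norm_num⟩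
  have h7 : Nat.Prime 7 := by norm_num
  obtain ⟨t, ht⟩ := mem_powers_iff_mem_zpowers.2 hy7
  obtain ⟨j, hj⟩ := mem_powers_iff_mem_zpowers.2 hcy
  simp only at ht hj
  have hj' : c * y * c⁻¹ = y ^ k * x ^ j := by rw [hj, mul_inv_cancel_left]
  have hcxp : ∀ m : ℕ, c * x ^ m * c⁻¹ = x ^ m := fun m => by rw [(hcx.pow_right m).eq, mul_inv_cancel_right]
  have hk1 : (k : ZMod 7) ≠ 1 := fun h => hk (by rw [h, one_pow])
  have hunit : IsUnit ((k : ZMod (7 ^ i)) - 1) := by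
    have hcop : ∀ m : ℤ, ¬ (7 : ℤ) ∣ m → IsUnit (m : ZMod (7 ^ i)) := by
      intro m hm
      rw [ZMod.coe_int_isUnit_iff_isCoprime, Nat.cast_pow]
      exact IsCoprime.pow_left ((Int.prime_iff_natAbs_prime.2 (by norm_num) : Prime ((7 : ℕ) : ℤ)).coprime_iff_not_dvd.2 hm)
    have := hcop ((k : ℤ) - 1) fun hd => hk1 (by
      have h : (((k : ℤ) - 1 : ℤ) : ZMod 7) = 0 := (ZMod.intCast_zmod_eq_zero_iff_dvd _ 7).2 hd
      push_cast at h
      exact sub_eq_zero.1 h)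
    push_cast at this
    exact this
  -- the seventh power
  have h2 : x ^ t = x ^ (t * k + j * 7) := by
    calc x ^ t = c * y ^ 7 * c⁻¹ := by rw [← ht, hcxp]
      _ = (y ^ k * x ^ j) ^ 7 := by rw [← conj_pow, hj']
      _ = x ^ (t * k + j * 7) := by
        rw [(hyx.pow_pow k j).mul_pow, ← pow_mul x, ← pow_mul y, mul_comm k 7, pow_mul y, ← ht, ← pow_mul, ← pow_add]
  rw [pow_eq_pow_iff_modEq, hxo, ← ZMod.natCast_eq_natCast_iff] at h2
  push_cast at h2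
  -- the shift
  obtain ⟨s, hs⟩ : ∃ s : ℕ, (s : ZMod (7 ^ i)) = (j : ZMod (7 ^ i)) * ↑(hunit.unit⁻¹) := by
    haveI : NeZero (7 ^ i) := ⟨pow_ne_zero _ (by norm_num)⟩
    exact ⟨_, ZMod.natCast_zmod_val _⟩
  have hsk : (s : ZMod (7 ^ i)) * ((k : ZMod (7 ^ i)) - 1) = j := by
    rw [hs, mul_assoc, IsUnit.val_inv_mul hunit, mul_one]
  set y₁ := y * x ^ s with hy₁
  have hyn₁ : y₁ ∉ zpowers x := fun h => hyn (by
    have := mul_mem h (inv_mem (pow_mem (mem_zpowers x) s))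
    rwa [hy₁, mul_inv_cancel_right] at this)
  have hy₁7 : y₁ ^ 7 = 1 := by
    rw [hy₁, (hyx.pow_right s).mul_pow, ← ht, ← pow_mul, ← pow_add]
    refine orderOf_dvd_iff_pow_eq_one.1 ?_
    rw [hxo, ← ZMod.natCast_eq_zero_iff]
    push_cast
    refine hunit.mul_left_eq_zero.1 ?_
    linear_combination -h2 + 7 * hsk
  have hy₁x : Commute y₁ x := hyx.mul_left ((Commute.refl x).pow_left s)
  have hcy₁ : c * y₁ * c⁻¹ = y₁ ^ k := by
    rw [hy₁, show c * (y * x ^ s) * c⁻¹ = (c * y * c⁻¹) * (c * x ^ s * c⁻¹) by group, hj', hcxp, mul_assoc, ← pow_add,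
      (hyx.pow_right s).mul_pow, ← pow_mul]
    congr 1
    rw [pow_eq_pow_iff_modEq, hxo, ← ZMod.natCast_eq_natCast_iff]
    push_cast
    linear_combination -hsk
  -- the 3-part of `c`
  set o := orderOf c with ho
  set e := o.factorization 3
  set m := o / 3 ^ e
  have hm : ¬ 3 ∣ m := Nat.not_dvd_ordCompl Nat.prime_three (orderOf_pos c).ne'
  have hit : ∀ l : ℕ, c ^ l * y₁ * (c ^ l)⁻¹ = y₁ ^ k ^ l := by
    intro l
    induction l with
    | zero => simp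
    | succ l ih =>
      rw [pow_succ' c l, show c * c ^ l * y₁ * (c * c ^ l)⁻¹ = c * (c ^ l * y₁ * (c ^ l)⁻¹) * c⁻¹ by group, ih,
        ← conj_pow, hcy₁, ← pow_mul, ← pow_succ']
  refine ⟨y₁, c ^ m, k ^ m, e, orderOf_eq_prime hy₁7 fun h => hyn₁ (h ▸ one_mem _), hyn₁, hy₁x, hcx.pow_left m,
    by rw [← pow_mul, Nat.div_mul_cancel (Nat.ordProj_dvd o 3), ho, pow_orderOf_eq_one], hit m, fun h => ?_⟩
  push_cast at h
  have hk0 : (k : ZMod 7) ≠ 0 := by
    intro h0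
    obtain ⟨l, rfl⟩ := (ZMod.natCast_eq_zero_iff k 7).1 h0
    rw [pow_mul, hy₁7, one_pow] at hcy₁
    exact hyn₁ (by rw [conj_eq_one_iff.1 hcy₁]; exact one_mem _)
  have h6 : ((k : ZMod 7) ^ 2) ^ 3 = 1 := by rw [← pow_mul]; exact ZMod.pow_card_sub_one_eq_one hk0
  have hh : ((k : ZMod 7) ^ 2) ^ Nat.gcd m 3 = 1 := pow_gcd_eq_one.2 ⟨by rw [← pow_mul, mul_comm, pow_mul]; exact h, h6⟩
  rw [((Nat.prime_three.coprime_iff_not_dvd.2 hm).symm).gcd_eq_one, pow_one] at hh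
  exact hk hh

end Cfsg.Lib.Ree.SevenPow

namespace Cfsg.Lib.Ree.Twist

open Subgroup

universe u

variable {G : Type u} [Group G] [Finite G] {t : G} {E E₀ : Subgroup G} {F : Type} [Field F] [Fintype F]
  (S : Setting t E E₀ F) {T : Sylow 2 G} {a b n : G} (hy : AbCentMax.Sys t E₀ T a b n)
include S hy

/-- The weight in `C(x)` for the fixed field of 3 elements. -/
theorem Setting.seven_weight {x : G} (hx : x ∈ S.Phi hy) {i : ℕ} (hi : 1 ≤ i) (hxo : orderOf x = 7 ^ i)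
    (hrel : E₀.relIndex E = 7 ^ i) {L : Type} [Field L] [Fintype L] (hL : Fintype.card L ^ orderOf x = Fintype.card F)
    (e : ↥(E₀ ⊓ centralizer ({x} : Set G)) ≃* Matrix.ProjectiveSpecialLinearGroup (Fin 2) L)
    (h3 : Fintype.card L = 3) :
    ∃ y c : G, ∃ b e : ℕ, orderOf y = 7 ∧ y ∉ zpowers x ∧ Commute y x ∧ Commute c x ∧ c ^ 3 ^ e = 1 ∧
      c * y * c⁻¹ = y ^ b ∧ (b : ZMod 7) ^ 2 ≠ 1 := by
  classical
  set N := (zpowers x).subgroupOf (centralizer ({x} : Set G)) with hN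
  haveI : N.Normal := ⟨fun z hz g => by
    obtain ⟨j, hj⟩ := mem_subgroupOf.1 hz
    refine mem_subgroupOf.2 ⟨j, ?_⟩
    show x ^ j = (g : G) * z * (g : G)⁻¹
    rw [← hj, ((show Commute (g : G) x from mem_centralizer_singleton_iff.1 g.2).zpow_right j).eq,
      mul_inv_cancel_right]⟩
  let P : Proj x (↥(centralizer ({x} : Set G)) ⧸ N) :=
    ⟨QuotientGroup.mk' N, QuotientGroup.mk'_surjective N, QuotientGroup.ker_mk' N⟩
  have H := S.hyp_quot P hy hx hL e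
  haveI := P.finite
  have himg : P.img E = P.img E₀ := by
    refine le_antisymm ?_ (map_mono fun g hg => S.hyp.le hg)
    rintro _ ⟨g, hg, rfl⟩
    obtain ⟨d, hd, p, hp, hgp⟩ := S.exists_mul hy (show (g : G) ∈ E from hg)
    have hpx : p ∈ zpowers x := by
      have hle : zpowers x ≤ S.Phi hy := zpowers_le.2 hx
      rw [Subgroup.eq_of_le_of_card_ge hle (by rw [S.card_Phi hy, hrel, Nat.card_zpowers, hxo])]
      exact hp
    have hpC : p ∈ centralizer ({x} : Set G) := zpowers_le.2 (mem_centralizer_singleton_iff.2 rfl) hpx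
    have hdC : d ∈ centralizer ({x} : Set G) := by
      rw [show d = (g : G) * p⁻¹ by rw [show (g : G) = d * p from hgp, mul_inv_cancel_right]]
      exact mul_mem g.2 (inv_mem hpC)
    refine P.mem_img.2 ⟨⟨d, hdC⟩, hd, ?_⟩
    rw [show g = ⟨d, hdC⟩ * ⟨p, hpC⟩ from Subtype.ext hgp, map_mul, (P.eq_one_iff (h := ⟨p, hpC⟩)).2 hpx, mul_one]
  rw [himg] at H
  obtain ⟨y₁, c₁, k, hyo, hcy, hk2⟩ :=
    Transfer.seven_weight H (S.sys_quot P hy hx) (Or.inl h3) fun w hw hw1 => S.trans_quot hy P hx hw hw1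
  obtain ⟨y, rfl⟩ := P.surj y₁
  obtain ⟨c, rfl⟩ := P.surj c₁
  refine SevenPow.lift_weight hi hxo (mem_centralizer_singleton_iff.1 y.2) (mem_centralizer_singleton_iff.1 c.2)
    (fun h => ?_) ((P.eq_one_iff (h := y ^ 7)).1 (by rw [map_pow, ← hyo, pow_orderOf_eq_one])) hk2
    ((P.eq_one_iff (h := (y ^ k)⁻¹ * (c * y * c⁻¹))).1
      (by rw [map_mul, map_inv, map_pow, map_mul, map_mul, map_inv, hcy, inv_mul_cancel]))
  rw [P.eq_one_iff.2 h, orderOf_one] at hyo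
  norm_num at hyo

end Cfsg.Lib.Ree.Twist
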