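import Cfsg.Agent.Ree.SevenPow.Local
import Cfsg.Agent.Ree.SevenPow.Weight

/-!
The local data from the normal subgroup of Janko–Ree type of `C(z)/⟨z⟩`.
-/

set_option autoImplicit false
set_option linter.unusedSectionVars false
set_option linter.style.haveILetI false

namespace Cfsg.Lib.Ree.SevenPow

open Subgroup Twist

universe u

variable {G : Type u} [Group G] [Finite G]

/-- A commutator centralized by both factors is bilinear. -/
theorem conj_bilinear {a b d : G} (hab : a * b * a⁻¹ = d * b) (hda : Commute d a) (hdb : Commute d b) (m n : ℕ) :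
    a ^ m * b ^ n * (a ^ m)⁻¹ = d ^ (m * n) * b ^ n := by
  have h1 : a * b ^ n * a⁻¹ = d ^ n * b ^ n := by rw [← conj_pow, hab, hdb.mul_pow]
  induction m with
  | zero => simp
  | succ m ih =>
    calc a ^ (m + 1) * b ^ n * (a ^ (m + 1))⁻¹ = a * (a ^ m * b ^ n * (a ^ m)⁻¹) * a⁻¹ := by rw [pow_succ']; group
      _ = (a * d ^ (m * n) * a⁻¹) * (a * b ^ n * a⁻¹) := by rw [ih]; group
      _ = _ := by
        rw [h1, ← (hda.pow_left _).eq, mul_inv_cancel_right, ← mul_assoc, ← pow_add]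
        congr 2; ring

/-- A cube root of unity modulo `7 ^ i` above `b`. -/
theorem exists_beta {i b : ℕ} (hi : 1 ≤ i) (hb3 : (b : ZMod 7) ^ 3 = 1) (hb : (b : ZMod 7) ≠ 1) :
    ∃ β : ℕ, (β : ZMod 7) = b ∧ (β : ZMod (7 ^ i)) ^ 2 + (β : ZMod (7 ^ i)) + 1 = 0 := by
  haveI : Fact (Nat.Prime 7) := ⟨by norm_num⟩
  refine ⟨b ^ 7 ^ (i - 1), ?_, ?_⟩
  · push_cast
    generalize (b : ZMod 7) = v
    induction i - 1 with
    | zero => simp
    | succ m ih => rw [pow_succ 7 m, pow_mul, ZMod.pow_card]; exact ih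
  · set β := b ^ 7 ^ (i - 1) with hβ
    have h3 : ((7 ^ i : ℕ) : ℤ) ∣ ((b ^ 3 : ℕ) : ℤ) ^ 7 ^ (i - 1) - 1 ^ 7 ^ (i - 1) := by
      rw [show (7 ^ i : ℕ) = 7 ^ (i - 1 + 1) by congr 1; omega, Nat.cast_pow 7]
      refine dvd_sub_pow_of_dvd_sub ?_ (i - 1)
      rw [← ZMod.intCast_zmod_eq_zero_iff_dvd]
      push_cast
      rw [hb3, sub_self]
    have h3' : (β : ZMod (7 ^ i)) ^ 3 - 1 = 0 := by
      have h := (ZMod.intCast_zmod_eq_zero_iff_dvd _ (7 ^ i)).2 h3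
      push_cast at h
      rw [one_pow, ← pow_mul, mul_comm, pow_mul] at h
      rw [hβ]; push_cast
      exact h
    have hu : IsUnit ((β : ZMod (7 ^ i)) - 1) := by
      have hcop : ∀ m : ℤ, ¬ (7 : ℤ) ∣ m → IsUnit (m : ZMod (7 ^ i)) := by
        intro m hm
        rw [ZMod.coe_int_isUnit_iff_isCoprime, Nat.cast_pow]
        exact IsCoprime.pow_left
          ((Int.prime_iff_natAbs_prime.2 (by norm_num) : Prime ((7 : ℕ) : ℤ)).coprime_iff_not_dvd.2 hm)
      have := hcop ((β : ℤ) - 1) fun hd => by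
        have h : (((β : ℤ) - 1 : ℤ) : ZMod 7) = 0 := (ZMod.intCast_zmod_eq_zero_iff_dvd _ 7).2 hd
        push_cast [hβ] at h
        refine hb ?_
        have hv : ∀ m : ℕ, (b : ZMod 7) ^ 7 ^ m = b := fun m => by
          induction m with
          | zero => simp
          | succ m ih => rw [pow_succ 7 m, pow_mul, ZMod.pow_card]; exact ih
        rw [hv, sub_eq_zero] at h
        exact h
      push_cast at this
      exact this
    refine hu.mul_right_eq_zero.1 ?_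
    linear_combination h3'

theorem prime_pow_coprime {p o k : ℕ} (hp : p.Prime) (ho : ¬ p ∣ o) : o.Coprime (p ^ k) :=
  Nat.Coprime.pow_right k ((hp.coprime_iff_not_dvd.2 ho).symm)

set_option maxHeartbeats 1600000 in
/-- The data. -/
theorem exists_data {x y c : G} {i b e D : ℕ} {X : Type u} [Group X] (P : Proj (x ^ 7 ^ (i - 1)) X) (M : Subgroup X)
    [M.Normal] (hi : 2 ≤ i) (hxo : orderOf x = 7 ^ i) (hyo : orderOf y = 7) (hyn : y ∉ zpowers x)
    (hyx : Commute y x) (hcx : Commute c x) (hc3 : c ^ 3 ^ e = 1) (hcy : c * y * c⁻¹ = y ^ b)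
    (hb : (b : ZMod 7) ^ 2 ≠ 1) (hindex : M.index = 7 ^ (i - 1)) (hM7 : 7 ^ i ∣ Nat.card M)
    (hM7' : ¬ 7 ^ (i + 1) ∣ Nat.card M) (hD : ∀ p : ℕ, p.Prime → p ∣ D → p ≠ 2 ∧ p ≠ 3)
    (hcent : ∀ g ∈ M, orderOf g = 7 → (∀ u ∈ M, Commute u g → orderOf u ∣ D) ∧
      ∀ u ∈ M, ∀ v ∈ M, Commute u g → Commute v g → Commute u v)
    (hnx : ∀ g : G, g * x * g⁻¹ ∈ zpowers x → g * x * g⁻¹ = x)
    (hnz : ∀ g : G, g * x ^ 7 ^ (i - 1) * g⁻¹ ∈ zpowers (x ^ 7 ^ (i - 1)) →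
      g * x ^ 7 ^ (i - 1) * g⁻¹ = x ^ 7 ^ (i - 1))
    (hCx : ∀ p : ℕ, p.Prime → p ∣ Nat.card (centralizer ({x} : Set G)) → p = 2 ∨ p = 3 ∨ p = 7)
    (hCx7 : ¬ 7 ^ (i + 2) ∣ Nat.card (centralizer ({x} : Set G)))
    (hcz : ¬ 7 ^ (2 * i + 1) ∣ Nat.card (centralizer ({x ^ 7 ^ (i - 1)} : Set G)))
    (hc7 : ¬ 7 ^ (i + 3) ∣ Nat.card (centralizer ({x ^ 7} : Set G))) :
    ∃ (A : Subgroup G) (β : ℕ), SData i x y c A β := by
  classical
  haveI := P.finite
  haveI : Fact (Nat.Prime 7) := ⟨by norm_num⟩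
  have h7 : Nat.Prime 7 := by norm_num
  set z := x ^ 7 ^ (i - 1) with hz
  set C := centralizer ({z} : Set G) with hC
  have hzC : z ∈ C := mem_centralizer_singleton_iff.2 rfl
  have hxC : x ∈ C := mem_centralizer_singleton_iff.2 (Commute.self_pow x _).eq
  have hyC : y ∈ C := mem_centralizer_singleton_iff.2 (hyx.pow_right _).eq
  have hcC : c ∈ C := mem_centralizer_singleton_iff.2 (hcx.pow_right _).eq
  set xC : C := ⟨x, hxC⟩
  set yC : C := ⟨y, hyC⟩
  set cC : C := ⟨c, hcC⟩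
  set xb := P.π xC
  set yb := P.π yC
  set cb := P.π cC
  have hzo : orderOf z = 7 := by
    rw [hz, orderOf_pow' _ (pow_ne_zero _ (by norm_num)), hxo, Nat.gcd_eq_right (pow_dvd_pow 7 (by omega)),
      Nat.pow_div (by omega) (by norm_num), show i - (i - 1) = 1 by omega, pow_one]
  have hy7 : y ^ 7 = 1 := by rw [← hyo, pow_orderOf_eq_one]
  have hzx : zpowers z ≤ zpowers x := zpowers_le.2 (pow_mem (mem_zpowers x) _)
  have hybo : orderOf yb = 7 := orderOf_eq_prime (by rw [← map_pow, show yC ^ 7 = 1 from Subtype.ext hy7, map_one])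
    fun h => hyn (hzx (P.eq_one_iff.1 h))
  -- the weight
  have hb0 : (b : ZMod 7) ≠ 0 := by
    intro h0
    obtain ⟨l, rfl⟩ := (ZMod.natCast_eq_zero_iff b 7).1 h0
    rw [pow_mul, hy7, one_pow] at hcy
    exact hyn (by rw [conj_eq_one_iff.1 hcy]; exact one_mem _)
  have hiter : ∀ l : ℕ, c ^ l * y * (c ^ l)⁻¹ = y ^ b ^ l := by
    intro l
    induction l with
    | zero => simp
    | succ l ih =>
      rw [pow_succ' c l, show c * c ^ l * y * (c * c ^ l)⁻¹ = c * (c ^ l * y * (c ^ l)⁻¹) * c⁻¹ by group, ih,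
        ← conj_pow, hcy, ← pow_mul, ← pow_succ']
  have hb3 : (b : ZMod 7) ^ 3 = 1 := by
    have h1 : y ^ 1 = y ^ b ^ 3 ^ e := by rw [← hiter, hc3]; simp
    rw [pow_eq_pow_iff_modEq, hyo, ← ZMod.natCast_eq_natCast_iff] at h1
    push_cast at h1
    have h6 : (b : ZMod 7) ^ 6 = 1 := ZMod.pow_card_sub_one_eq_one hb0
    have hg := pow_gcd_eq_one.2 ⟨h6, h1.symm⟩
    have hdvd : Nat.gcd 6 (3 ^ e) ∣ 3 := by
      refine (Nat.Coprime.dvd_of_dvd_mul_left (k := Nat.gcd 6 (3 ^ e)) (m := 2) ?_ (Nat.gcd_dvd_left 6 (3 ^ e) : _ ∣ 2 * 3))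
      exact Nat.Coprime.coprime_dvd_left (Nat.gcd_dvd_right _ _) (Nat.Coprime.pow_left e (by norm_num))
    obtain ⟨q, hq⟩ := hdvd
    rw [hq, pow_mul, hg, one_pow]
  have hb1 : (b : ZMod 7) ≠ 1 := fun h => hb (by rw [h, one_pow])
  have hcby : cb * yb * cb⁻¹ = yb ^ b := by
    rw [← map_inv, ← map_mul, ← map_mul, show cC * yC * cC⁻¹ = yC ^ b from Subtype.ext hcy, map_pow]
  -- membership in `M`
  have hmemM : ∀ u : X, ∀ l : ℕ, u ^ l = 1 → l.Coprime 7 → u ∈ M := by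
    intro u l hu hl
    rw [← QuotientGroup.eq_one_iff]
    refine orderOf_eq_one_iff.1 (Nat.eq_one_of_dvd_coprimes (hl.pow_right (i - 1)) ?_ ?_)
    · exact orderOf_dvd_of_pow_eq_one (by rw [← QuotientGroup.mk_pow, hu]; rfl)
    · rw [← hindex, Subgroup.index_eq_card]; exact orderOf_dvd_natCard _
  have hcbM : cb ∈ M := hmemM cb (3 ^ e)
    (by rw [← map_pow, show cC ^ 3 ^ e = 1 from Subtype.ext hc3, map_one]) (Nat.Coprime.pow_left e (by norm_num))
  have hybM : yb ∈ M := by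
    have h1 : cb * yb * cb⁻¹ * yb⁻¹ ∈ M := by
      rw [show cb * yb * cb⁻¹ * yb⁻¹ = cb * (yb * cb⁻¹ * yb⁻¹) by group]
      exact mul_mem hcbM (Subgroup.Normal.conj_mem inferInstance _ (inv_mem hcbM) yb)
    have hbne : b ≠ 0 := fun h => hb0 (by rw [h, Nat.cast_zero])
    rw [hcby, show yb ^ b * yb⁻¹ = yb ^ (b - 1) by
      rw [mul_inv_eq_iff_eq_mul, ← pow_succ, show b - 1 + 1 = b by omega]] at h1
    obtain ⟨l, hl⟩ := exists_pow_eq_self_of_coprime (x := yb) (n := b - 1) (by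
      rw [hybo]
      exact ((h7.coprime_iff_not_dvd).2 fun hd => by
        have h : (1 : ℕ) ≡ b [MOD 7] := (Nat.modEq_iff_dvd' (by omega)).2 hd
        exact hb1 (by simpa using ((ZMod.natCast_eq_natCast_iff 1 b 7).2 h).symm)).symm)
    exact hl ▸ pow_mem h1 l
  obtain ⟨hUd, hUc⟩ := hcent yb hybM hybo
  -- the Sylow subgroup of `M`
  obtain ⟨R₁, hR₁⟩ := (IsPGroup.of_card (G := zpowers (⟨yb, hybM⟩ : M)) (p := 7) (n := 1)
    (by rw [Nat.card_zpowers, Subgroup.orderOf_mk, hybo, pow_one])).exists_le_sylow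
  have hR₁c : Nat.card (R₁ : Subgroup M) = 7 ^ i := by
    obtain ⟨q, hq⟩ := R₁.2.exists_card_eq
    have h1 : 7 ^ q ∣ Nat.card M := hq ▸ card_subgroup_dvd_card _
    have h2 : 7 ^ i ∣ 7 ^ q := by
      refine Nat.Coprime.dvd_of_dvd_mul_right (k := 7 ^ i) (n := (R₁ : Subgroup M).index) ?_ ?_
      · exact (prime_pow_coprime h7 R₁.not_dvd_index).symm
      · rw [← hq, (R₁ : Subgroup M).card_mul_index]; exact hM7
    have hqi : q ≤ i := by
      by_contra hlt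
      exact hM7' ((pow_dvd_pow 7 (show i + 1 ≤ q by omega)).trans h1)
    rw [hq, le_antisymm hqi ((Nat.pow_dvd_pow_iff_le_right (by norm_num : 1 < 7)).1 h2)]
  set Ab := (R₁ : Subgroup M).map M.subtype with hAb
  have hAbM : Ab ≤ M := map_subtype_le _
  have hAbc : Nat.card Ab = 7 ^ i := by rw [hAb, card_map_of_injective M.subtype_injective, hR₁c]
  have hAbp : IsPGroup 7 Ab := IsPGroup.of_card hAbc
  have hybA : yb ∈ Ab := ⟨_, hR₁ (mem_zpowers _), rfl⟩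
  -- it is abelian and centralizes `yb`
  have hAcomm : ∀ u ∈ Ab, ∀ v ∈ Ab, Commute u v := by
    haveI : Nontrivial Ab := ⟨⟨⟨yb, hybA⟩, 1, fun h => by
      rw [show yb = 1 from congrArg Subtype.val h, orderOf_one] at hybo; omega⟩⟩
    haveI := hAbp.center_nontrivial
    obtain ⟨⟨v₀, hv₀⟩, hv₀o⟩ := exists_prime_orderOf_dvd_card' (G := Subgroup.center Ab) 7 (by
      rcases (hAbp.to_subgroup (Subgroup.center Ab)).card_eq_or_dvd with h | h
      · exact absurd h Finite.one_lt_card.ne'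
      · exact h)
    have hv₀o' : orderOf (v₀ : X) = 7 := by
      rw [Subgroup.orderOf_coe, ← Subgroup.orderOf_mk v₀ hv₀]; exact hv₀o
    obtain ⟨-, h⟩ := hcent v₀ (hAbM v₀.2) hv₀o'
    intro u hu v hv
    have hcm : ∀ w ∈ Ab, Commute w (v₀ : X) := fun w hw =>
      congrArg Subtype.val (Subgroup.mem_center_iff.1 hv₀ ⟨w, hw⟩)
    exact h u (hAbM hu) v (hAbM hv) (hcm u hu) (hcm v hv)
  have hyA : ∀ u ∈ Ab, Commute u yb := fun u hu => hAcomm u hu yb hybA
  -- the uniqueness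
  have huniq : ∀ u ∈ M, Commute u yb → (∃ q : ℕ, u ^ 7 ^ q = 1) → u ∈ Ab := by
    rintro u hu huy ⟨q, hq⟩
    obtain ⟨r, -, hr⟩ := (Nat.dvd_prime_pow h7).1 (orderOf_dvd_of_pow_eq_one hq)
    have hp : IsPGroup 7 (zpowers (⟨u, hu⟩ : M)) :=
      IsPGroup.of_card (n := r) (by rw [Nat.card_zpowers, Subgroup.orderOf_mk, hr])
    have hn : zpowers (⟨u, hu⟩ : M) ≤ normalizer ((R₁ : Subgroup M) : Set M) := by
      refine le_trans (zpowers_le.2 (mem_centralizer_iff.2 fun w hw => Subtype.ext ?_)) (centralizer_le_normalizer _)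
      exact (hUc w w.2 u hu (hyA w ⟨w, hw, rfl⟩) huy).eq
    have h := R₁.is_maximal' (hp.to_sup_of_normal_right' R₁.2 hn) le_sup_right
    exact ⟨⟨u, hu⟩, h.le (mem_sup_left (mem_zpowers _)), rfl⟩
  have hApow : ∀ u ∈ Ab, u ^ 7 ^ i = 1 := fun u hu =>
    orderOf_dvd_iff_pow_eq_one.1 (hAbc ▸ orderOf_dvd_natCard Ab hu)
  have hxby : Commute xb yb := by
    show P.π xC * P.π yC = P.π yC * P.π xC
    rw [← map_mul, ← map_mul]
    exact congrArg P.π (Subtype.ext hyx.symm.eq)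
  have hconjA : ∀ (w : X), (∀ u, Commute u yb → Commute (w * u * w⁻¹) yb) → ∀ u ∈ Ab, w * u * w⁻¹ ∈ Ab := by
    intro w hw u hu
    refine huniq _ (Subgroup.Normal.conj_mem inferInstance _ (hAbM hu) w) (hw u (hyA u hu)) ⟨i, ?_⟩
    rw [conj_pow, hApow u hu]; group
  have hxA : ∀ u ∈ Ab, xb * u * xb⁻¹ ∈ Ab := hconjA xb fun u hu => by
    have h := (Commute.conj_iff xb).2 hu
    rwa [hxby.eq, mul_inv_cancel_right] at h
  have hcA : ∀ u ∈ Ab, cb * u * cb⁻¹ ∈ Ab := hconjA cb fun u hu => by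
    have h := (Commute.conj_iff cb).2 hu
    rw [hcby] at h
    obtain ⟨l, hl⟩ := exists_pow_eq_self_of_coprime (x := yb) (n := b) (by
      rw [hybo]
      exact ((h7.coprime_iff_not_dvd).2 fun hd => hb0 ((ZMod.natCast_eq_zero_iff b 7).2 hd)).symm)
    exact hl ▸ h.pow_right l
  -- fixed-point-freeness of `c`
  have hfpf : ∀ u ∈ Ab, Commute cb u → u = 1 := by
    intro u hu hcu
    by_contra hu1
    obtain ⟨r, hr, hro⟩ := (Nat.dvd_prime_pow h7).1 (orderOf_dvd_of_pow_eq_one (hApow u hu))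
    have hr0 : r ≠ 0 := fun h => hu1 (orderOf_eq_one_iff.1 (by rw [hro, h, pow_zero]))
    have hwo : orderOf (u ^ 7 ^ (r - 1)) = 7 := by
      rw [orderOf_pow' _ (pow_ne_zero _ h7.ne_zero), hro, Nat.gcd_eq_right (pow_dvd_pow 7 (by omega)),
        Nat.pow_div (by omega) (by norm_num), show r - (r - 1) = 1 by omega, pow_one]
    obtain ⟨hd, -⟩ := hcent _ (pow_mem (hAbM hu) _) hwo
    have hdD := hd cb hcbM (hcu.pow_right _)
    have hd3 : orderOf cb ∣ 3 ^ e :=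
      orderOf_dvd_of_pow_eq_one (by rw [← map_pow, show cC ^ 3 ^ e = 1 from Subtype.ext hc3, map_one])
    obtain ⟨q, -, hq⟩ := (Nat.dvd_prime_pow Nat.prime_three).1 hd3
    have hq0 : q = 0 := by
      by_contra hq0
      exact (hD 3 Nat.prime_three ((dvd_pow_self 3 hq0).trans (hq ▸ hdD))).2 rfl
    rw [hq0, pow_zero, orderOf_eq_one_iff] at hq
    rw [hq, one_mul, inv_one, mul_one] at hcby
    have h1 : yb ^ 1 = yb ^ b := by rw [pow_one]; exact hcby
    rw [pow_eq_pow_iff_modEq, hybo, ← ZMod.natCast_eq_natCast_iff] at h1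
    exact hb1 (by simpa using h1.symm)
  -- `c ^ 3 = 1`
  have hc31 : c ^ 3 = 1 := by
    have h1 : Commute (cb ^ 3) yb := by
      have : P.π (cC ^ 3 * yC * (cC ^ 3)⁻¹) = yb := by
        refine congrArg P.π (Subtype.ext ?_)
        show c ^ 3 * y * (c ^ 3)⁻¹ = y
        rw [hiter]
        conv_rhs => rw [← pow_one y]
        rw [pow_eq_pow_iff_modEq, hyo, ← ZMod.natCast_eq_natCast_iff]
        push_cast
        exact hb3
      rw [map_mul, map_mul, map_inv, map_pow] at this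
      exact mul_inv_eq_iff_eq_mul.1 this
    have hdD := hUd _ (pow_mem hcbM 3) h1
    have hd3 : orderOf (cb ^ 3) ∣ 3 ^ e := orderOf_dvd_of_pow_eq_one (by
      rw [← pow_mul, mul_comm, pow_mul, ← map_pow, show cC ^ 3 ^ e = 1 from Subtype.ext hc3, map_one, one_pow])
    obtain ⟨q, -, hq⟩ := (Nat.dvd_prime_pow Nat.prime_three).1 hd3
    have hq0 : q = 0 := by
      by_contra hq0
      exact (hD 3 Nat.prime_three ((dvd_pow_self 3 hq0).trans (hq ▸ hdD))).2 rfl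
    rw [hq0, pow_zero, orderOf_eq_one_iff, ← map_pow, P.eq_one_iff] at hq
    have ho1 : orderOf (c ^ 3) ∣ 7 := hzo ▸ orderOf_dvd_of_mem_zpowers hq
    have ho2 : orderOf (c ^ 3) ∣ 3 ^ e :=
      orderOf_dvd_of_pow_eq_one (by rw [← pow_mul, mul_comm, pow_mul, hc3, one_pow])
    exact orderOf_eq_one_iff.1 (Nat.eq_one_of_dvd_coprimes (Nat.Coprime.pow_right e (by norm_num)) ho1 ho2)
  -- elements of `C(z)` over fixed points of `x` in `Ab`
  have hfix : ∀ h : C, P.π h ∈ Ab → Commute (P.π h) xb → Commute (h : G) x ∧ ∃ k l : ℕ, (h : G) = x ^ k * y ^ l := by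
    intro h hh hhx
    have hcm : ∀ g : C, Commute (P.π h) (P.π g) → (h : G) * g * (h : G)⁻¹ * (g : G)⁻¹ ∈ zpowers z := by
      intro g hg
      refine (P.eq_one_iff (h := h * g * h⁻¹ * g⁻¹)).1 ?_
      rw [map_mul, map_mul, map_mul, map_inv, map_inv, hg.eq]; group
    have hx1 : (h : G) * x * (h : G)⁻¹ = x := hnx _ (by
      have := mul_mem (hzx (hcm xC hhx)) (mem_zpowers x)
      rwa [show (h : G) * x * (h : G)⁻¹ * x⁻¹ * x = (h : G) * x * (h : G)⁻¹ by group] at this)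
    have hhxc : Commute (h : G) x := mul_inv_eq_iff_eq_mul.1 hx1
    refine ⟨hhxc, ?_⟩
    have hhy : (h : G) * y * (h : G)⁻¹ * y⁻¹ ∈ zpowers z := hcm yC (hyA _ hh)
    set V := zpowers x ⊔ zpowers y with hV
    have hVm : ∀ s, s ∈ V ↔ ∃ k : ℕ, ∃ l ∈ zpowers y, s = x ^ k * l := fun s => mem_join fun l hl => by
      obtain ⟨r, rfl⟩ := hl
      rw [(hyx.symm.zpow_right r).eq, mul_inv_cancel_right]; exact zpow_mem (mem_zpowers y) r
    have hVcard : Nat.card V = 7 ^ (i + 1) := by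
      have e1 := Nat.card_eq_of_bijective (fun w : zpowers x × zpowers y =>
        (⟨(w.1 : G) * w.2, mul_mem (mem_sup_left w.1.2) (mem_sup_right w.2.2)⟩ : V)) ⟨?_, ?_⟩
      · rw [← e1, Nat.card_prod, Nat.card_zpowers, Nat.card_zpowers, hxo, hyo, ← pow_succ]
      · rintro ⟨⟨a₁, ha₁⟩, ⟨b₁, hb₁⟩⟩ ⟨⟨a₂, ha₂⟩, ⟨b₂, hb₂⟩⟩ h'
        have h'' : a₁ * b₁ = a₂ * b₂ := congrArg Subtype.val h'
        have hb' : b₁ * b₂⁻¹ ∈ zpowers x := by
          rw [show b₁ * b₂⁻¹ = a₁⁻¹ * (a₁ * b₁) * b₂⁻¹ by group, h'', show a₁⁻¹ * (a₂ * b₂) * b₂⁻¹ = a₁⁻¹ * a₂ by group]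
          exact mul_mem (inv_mem ha₁) ha₂
        have hb'' : b₁ * b₂⁻¹ = 1 := by
          by_contra hne
          refine hyn ?_
          have hy' : b₁ * b₂⁻¹ ∈ zpowers y := mul_mem hb₁ (inv_mem hb₂)
          have ho : orderOf (b₁ * b₂⁻¹) = 7 := by
            rcases (Nat.dvd_prime h7).1 (hyo ▸ orderOf_dvd_of_mem_zpowers hy') with h | h
            · exact absurd (orderOf_eq_one_iff.1 h) hne
            · exact h
          have heq : zpowers (b₁ * b₂⁻¹) = zpowers y := Subgroup.eq_of_le_of_card_ge (zpowers_le.2 hy')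
            (by rw [Nat.card_zpowers, Nat.card_zpowers, ho, hyo])
          exact (heq ▸ zpowers_le.2 hb' : zpowers y ≤ zpowers x) (mem_zpowers y)
        rw [mul_inv_eq_one] at hb''
        subst hb''
        exact Prod.ext (Subtype.ext (mul_right_cancel h'')) rfl
      · rintro ⟨s, hs⟩
        obtain ⟨k, l, hl, rfl⟩ := (hVm s).1 hs
        exact ⟨(⟨x ^ k, pow_mem (mem_zpowers x) k⟩, ⟨l, hl⟩), rfl⟩
    obtain ⟨q, hq⟩ : ∃ q : ℕ, (h : G) ^ 7 ^ q = 1 := by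
      have h1 : (h : G) ^ 7 ^ i ∈ zpowers z :=
        (P.eq_one_iff (h := h ^ 7 ^ i)).1 (by rw [map_pow, hApow _ hh])
      exact ⟨i + 1, by
        rw [pow_succ, pow_mul]
        have h3 := orderOf_dvd_of_mem_zpowers h1
        rw [hzo] at h3
        exact orderOf_dvd_iff_pow_eq_one.1 h3⟩
    obtain ⟨r, -, hr⟩ := (Nat.dvd_prime_pow h7).1 (orderOf_dvd_of_pow_eq_one hq)
    have hVp : IsPGroup 7 V := IsPGroup.of_card hVcard
    have hn : zpowers (h : G) ≤ normalizer (V : Set G) := by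
      refine zpowers_le.2 ?_
      have hmap : ∀ s ∈ V, (h : G) * s * (h : G)⁻¹ ∈ V := by
        intro s hs
        obtain ⟨k, l, ⟨r', rfl⟩, rfl⟩ := (hVm s).1 hs
        rw [show (h : G) * (x ^ k * y ^ r') * (h : G)⁻¹ =
          ((h : G) * x ^ k * (h : G)⁻¹) * ((h : G) * y ^ r' * (h : G)⁻¹) by group, (hhxc.pow_right k).eq,
          mul_inv_cancel_right, ← conj_zpow]
        refine mul_mem (mem_sup_left (pow_mem (mem_zpowers x) k)) (zpow_mem ?_ r')
        rw [show (h : G) * y * (h : G)⁻¹ = ((h : G) * y * (h : G)⁻¹ * y⁻¹) * y by group]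
        exact mul_mem (mem_sup_left (hzx hhy)) (mem_sup_right (mem_zpowers y))
      refine mem_normalizer_iff.2 fun s => ⟨hmap s, fun hs => ?_⟩
      have hle : V.map (MulAut.conj (h : G)).toMonoidHom ≤ V := by rintro _ ⟨v, hv, rfl⟩; exact hmap v hv
      have heq := Subgroup.eq_of_le_of_card_ge hle (by rw [card_map_of_injective (MulAut.conj (h : G)).injective])
      rw [← heq] at hs
      obtain ⟨v, hv, hvs⟩ := hs
      exact (MulAut.conj (h : G)).injective hvs ▸ hv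
    have hJp := (IsPGroup.of_card (G := zpowers (h : G)) (p := 7) (n := r)
      (by rw [Nat.card_zpowers, hr])).to_sup_of_normal_right' hVp hn
    have hJle : zpowers (h : G) ⊔ V ≤ centralizer ({x} : Set G) := sup_le
      (zpowers_le.2 (mem_centralizer_singleton_iff.2 hhxc.eq))
      (sup_le (zpowers_le.2 (mem_centralizer_singleton_iff.2 rfl))
        (zpowers_le.2 (mem_centralizer_singleton_iff.2 hyx.eq)))
    obtain ⟨qj, hqj⟩ := hJp.exists_card_eq
    have hJV : V = zpowers (h : G) ⊔ V := Subgroup.eq_of_le_of_card_ge le_sup_right (by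
      rw [hqj, hVcard]
      refine Nat.pow_le_pow_right (by norm_num) ?_
      by_contra hlt
      exact hCx7 ((pow_dvd_pow 7 (show i + 2 ≤ qj by omega)).trans (hqj ▸ card_dvd_of_le hJle)))
    obtain ⟨k, l, hl, hkl⟩ := (hVm _).1 (hJV ▸ mem_sup_left (mem_zpowers (h : G)) : (h : G) ∈ V)
    obtain ⟨l', hl'⟩ := mem_powers_iff_mem_zpowers.2 hl
    exact ⟨k, l', by rw [hkl, ← show y ^ l' = l from hl']⟩
  -- the scalar action
  obtain ⟨β, hβb, hβ0⟩ := exists_beta (i := i) (by omega) hb3 hb1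
  have hscal : ∀ u ∈ Ab, cb * u * cb⁻¹ = u ^ β := by
    intro u hu
    set v := cb * u * cb⁻¹ with hv
    set w := cb * v * cb⁻¹ with hw
    have hvA : v ∈ Ab := hcA u hu
    have hwA : w ∈ Ab := hcA v hvA
    have hcw : cb * w * cb⁻¹ = u := by
      have h3 : cb ^ 3 = 1 := by rw [← map_pow, show cC ^ 3 = 1 from Subtype.ext hc31, map_one]
      calc cb * w * cb⁻¹ = cb ^ 3 * u * (cb ^ 3)⁻¹ := by rw [hw, hv]; simp only [pow_succ, pow_zero, one_mul]; group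
        _ = u := by rw [h3]; group
    have hs : w * v * u = 1 := by
      refine hfpf _ (mul_mem (mul_mem hwA hvA) hu) ?_
      refine mul_inv_eq_iff_eq_mul.1 ?_
      calc cb * (w * v * u) * cb⁻¹ = (cb * w * cb⁻¹) * (cb * v * cb⁻¹) * (cb * u * cb⁻¹) := by group
        _ = u * w * v := by rw [hcw, ← hv, ← hw]
        _ = w * v * u := by rw [mul_assoc u, (hAcomm u hu _ (mul_mem hwA hvA)).eq]
    set ψ := v * (u ^ β)⁻¹ with hψ
    have hψA : ψ ∈ Ab := mul_mem hvA (inv_mem (pow_mem hu β))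
    have hψc : cb * ψ * cb⁻¹ = ψ ^ (β * β) := by
      have hcψ : cb * ψ * cb⁻¹ = w * (v ^ β)⁻¹ := by
        rw [hψ, show cb * (v * (u ^ β)⁻¹) * cb⁻¹ = (cb * v * cb⁻¹) * (cb * u ^ β * cb⁻¹)⁻¹ by group, ← hw,
          ← conj_pow, ← hv]
      have hexp : ∀ a : X, a ∈ Ab → ∀ p q : ℕ, (p : ZMod (7 ^ i)) = q → a ^ p = a ^ q := fun a ha p q hpq =>
        pow_eq_pow_iff_modEq.2 (((ZMod.natCast_eq_natCast_iff p q _).1 hpq).of_dvd
          (orderOf_dvd_of_pow_eq_one (hApow a ha)))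
      have hwe : w = v⁻¹ * u⁻¹ := by
        rw [← mul_inv_rev, eq_inv_iff_mul_eq_one, (hAcomm u hu v hvA).eq, ← mul_assoc]; exact hs
      have e1 : v⁻¹ * (v ^ β)⁻¹ = v ^ (β * β) := by
        rw [← mul_inv_rev, ← pow_succ, inv_eq_iff_mul_eq_one, ← pow_add,
          hexp v hvA _ 0 (by push_cast; linear_combination hβ0), pow_zero]
      have e2 : u⁻¹ = ((u ^ β)⁻¹) ^ (β * β) := by
        rw [inv_pow, inv_inj, ← pow_mul]
        conv_lhs => rw [← pow_one u]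
        exact hexp u hu _ _ (by push_cast; linear_combination -((β : ZMod (7 ^ i)) - 1) * hβ0)
      have hc1 : Commute v (u ^ β)⁻¹ := ((hAcomm v hvA u hu).pow_right β).inv_right
      rw [hcψ, hψ, hc1.mul_pow, ← e2, ← e1, hwe, mul_assoc, mul_assoc,
        (((hAcomm u hu v hvA).pow_right β).inv_inv).eq]
    let K : Subgroup X :=
      { carrier := {a | a ∈ Ab ∧ cb * a * cb⁻¹ = a ^ (β * β)}
        one_mem' := ⟨one_mem _, by simp⟩
        mul_mem' := fun {a a'} ha ha' => ⟨mul_mem ha.1 ha'.1, by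
          rw [show cb * (a * a') * cb⁻¹ = (cb * a * cb⁻¹) * (cb * a' * cb⁻¹) by group, ha.2, ha'.2,
            (hAcomm a ha.1 a' ha'.1).mul_pow]⟩
        inv_mem' := fun {a} ha => ⟨inv_mem ha.1, by
          rw [show cb * a⁻¹ * cb⁻¹ = (cb * a * cb⁻¹)⁻¹ by group, ha.2, inv_pow]⟩ }
    have hxc : Commute xb cb := by
      show P.π xC * P.π cC = P.π cC * P.π xC
      rw [← map_mul, ← map_mul]
      exact congrArg P.π (Subtype.ext hcx.symm.eq)
    have hxK : ∀ a ∈ K, xb * a * xb⁻¹ ∈ K := fun a ha => ⟨hxA a ha.1, by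
      rw [show cb * (xb * a * xb⁻¹) * cb⁻¹ = (cb * xb) * a * (cb * xb)⁻¹ by group, ← hxc.eq,
        show xb * cb * a * (xb * cb)⁻¹ = xb * (cb * a * cb⁻¹) * xb⁻¹ by group, ha.2, conj_pow]⟩
    have hKbot : ∀ a ∈ K, a = 1 := by
      by_contra hne
      push Not at hne
      obtain ⟨a₀, ha₀, ha₀1⟩ := hne
      have hxbp : IsPGroup 7 (zpowers xb) := by
        obtain ⟨r, -, hr⟩ := (Nat.dvd_prime_pow h7).1 (orderOf_dvd_of_pow_eq_one
          (show xb ^ 7 ^ i = 1 by rw [← map_pow, show xC ^ 7 ^ i = 1 from Subtype.ext (by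
            show x ^ 7 ^ i = 1
            rw [← hxo, pow_orderOf_eq_one]), map_one]))
        exact IsPGroup.of_card (n := r) (by rw [Nat.card_zpowers, hr])
      have hxn : zpowers xb ≤ normalizer (Ab : Set X) := by
        refine zpowers_le.2 (mem_normalizer_iff.2 fun a => ⟨hxA a, fun ha => ?_⟩)
        have hle : Ab.map (MulAut.conj xb).toMonoidHom ≤ Ab := by rintro _ ⟨v, hv, rfl⟩; exact hxA v hv
        have heq := Subgroup.eq_of_le_of_card_ge hle (by rw [card_map_of_injective (f := (MulAut.conj xb).toMonoidHom) (MulAut.conj xb).injective (K := Ab)])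
        rw [← heq] at ha
        obtain ⟨v, hv, hvs⟩ := ha
        exact (MulAut.conj xb).injective hvs ▸ hv
      obtain ⟨a, ha, ha1, hac⟩ := exists_next (N := ⊥) (M := K)
        (hxbp.to_sup_of_normal_right' hAbp hxn) (fun a ha => mem_sup_right ha.1)
        (bot_lt_iff_ne_bot.2 fun h => ha₀1 (mem_bot.1 (h ▸ ha₀)))
        (fun g _ a ha => by rw [mem_bot.1 ha]; simp)
        (fun g hg a ha => by
          obtain ⟨k, a', ha', rfl⟩ := (mem_join hxA).1 hg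
          rw [show xb ^ k * a' * a * (xb ^ k * a')⁻¹ = xb ^ k * (a' * a * a'⁻¹) * (xb ^ k)⁻¹ by group,
            (hAcomm a' ha' a ha.1).eq, mul_inv_cancel_right]
          exact conj_pow_mem hxK k ha)
      refine ha1 (mem_bot.2 ?_)
      have hax : Commute a xb :=
        (mul_inv_eq_iff_eq_mul.1 (mul_inv_eq_one.1 (mem_bot.1 (hac xb (mem_sup_left (mem_zpowers xb)))))).symm
      obtain ⟨h, rfl⟩ := P.surj a
      obtain ⟨-, k, l, hkl⟩ := hfix h ha.1 hax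
      have hl : (l : ZMod 7) = 0 := by
        have e : cC * h * cC⁻¹ * ((h ^ (β * β))⁻¹) ∈ P.π.ker := by
          rw [MonoidHom.mem_ker, map_mul, map_mul, map_mul, map_inv, map_inv, map_pow, ha.2, mul_inv_cancel]
        rw [MonoidHom.mem_ker, P.eq_one_iff] at e
        have e' : c * (h : G) * c⁻¹ * ((h : G) ^ (β * β))⁻¹ ∈ zpowers x := hzx e
        rw [hkl, show c * (x ^ k * y ^ l) * c⁻¹ = (c * x ^ k * c⁻¹) * (c * y ^ l * c⁻¹) by group,
          (hcx.pow_right k).eq, mul_inv_cancel_right, ← conj_pow, hcy, ((hyx.symm.pow_pow k l)).mul_pow, mul_inv_rev,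
          ← pow_mul, ← pow_mul, ← pow_mul] at e'
        have e'' : y ^ (b * l) * (y ^ (l * (β * β)))⁻¹ ∈ zpowers x := by
          have := mul_mem (mul_mem (inv_mem (pow_mem (mem_zpowers x) k)) e') (pow_mem (mem_zpowers x) (k * (β * β)))
          rwa [show (x ^ k)⁻¹ * (x ^ k * y ^ (b * l) * ((y ^ (l * (β * β)))⁻¹ * (x ^ (k * (β * β)))⁻¹)) *
            x ^ (k * (β * β)) = y ^ (b * l) * (y ^ (l * (β * β)))⁻¹ by group] at this
        by_contra hl0
        have hne : y ^ (b * l) * (y ^ (l * (β * β)))⁻¹ ≠ 1 := by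
          intro h1
          rw [mul_inv_eq_one, pow_eq_pow_iff_modEq, hyo, ← ZMod.natCast_eq_natCast_iff] at h1
          push_cast at h1
          rw [hβb] at h1
          have : (l : ZMod 7) * (b : ZMod 7) * (1 - b) = 0 := by linear_combination h1
          rcases mul_eq_zero.1 this with h2 | h2
          · exact (mul_ne_zero hl0 hb0) h2
          · exact hb1 (sub_eq_zero.1 h2).symm
        have hmem : y ^ (b * l) * (y ^ (l * (β * β)))⁻¹ ∈ zpowers y :=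
          mul_mem (pow_mem (mem_zpowers y) _) (inv_mem (pow_mem (mem_zpowers y) _))
        have ho : orderOf (y ^ (b * l) * (y ^ (l * (β * β)))⁻¹) = 7 := by
          rcases (Nat.dvd_prime h7).1 (hyo ▸ orderOf_dvd_of_mem_zpowers hmem) with h | h
          · exact absurd (orderOf_eq_one_iff.1 h) hne
          · exact h
        have heq : zpowers (y ^ (b * l) * (y ^ (l * (β * β)))⁻¹) = zpowers y :=
          Subgroup.eq_of_le_of_card_ge (zpowers_le.2 hmem) (by rw [Nat.card_zpowers, Nat.card_zpowers, ho, hyo])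
        exact hyn ((heq ▸ zpowers_le.2 e'' : zpowers y ≤ zpowers x) (mem_zpowers y))
      have hyl : y ^ l = 1 := by
        rw [← pow_zero y, pow_eq_pow_iff_modEq, hyo, ← ZMod.natCast_eq_natCast_iff, Nat.cast_zero]; exact hl
      refine hfpf _ ha.1 ?_
      show P.π cC * P.π h = P.π h * P.π cC
      rw [← map_mul, ← map_mul]
      refine congrArg P.π (Subtype.ext ?_)
      show c * (h : G) = (h : G) * c
      rw [hkl, hyl, mul_one]
      exact (hcx.pow_right k).eq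
    exact mul_inv_eq_one.1 (hKbot ψ ⟨hψA, hψc⟩)
  -- the preimage
  set Ah : Subgroup G := (Ab.comap P.π).map C.subtype with hAh
  have hAhm : ∀ g : G, g ∈ Ah ↔ ∃ hg : g ∈ C, P.π ⟨g, hg⟩ ∈ Ab := fun g => by
    constructor
    · rintro ⟨h, hh, rfl⟩; exact ⟨h.2, hh⟩
    · rintro ⟨hg, hh⟩; exact ⟨⟨g, hg⟩, hh, rfl⟩
  have hcz' : ∀ g ∈ C, Commute g z := fun g hg => mem_centralizer_singleton_iff.1 hg
  have hAhc : ∀ a ∈ Ah, ∃ m : ℕ, c * a * c⁻¹ = z ^ m * a ^ β := by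
    intro a ha
    obtain ⟨haC, hab⟩ := (hAhm a).1 ha
    have e : P.π (cC * ⟨a, haC⟩ * cC⁻¹ * ((⟨a, haC⟩ : C) ^ β)⁻¹) = 1 := by
      rw [map_mul, map_mul, map_mul, map_inv, map_inv, map_pow, hscal _ hab, mul_inv_cancel]
    obtain ⟨m, hm⟩ := mem_powers_iff_mem_zpowers.2 (P.eq_one_iff.1 e)
    have hm' : z ^ m = c * a * c⁻¹ * (a ^ β)⁻¹ := hm
    exact ⟨m, by rw [hm', inv_mul_cancel_right]⟩
  have hz7 : z ^ 7 = 1 := by rw [← hzo, pow_orderOf_eq_one]
  have hAhcomm : ∀ a ∈ Ah, ∀ a' ∈ Ah, Commute a a' := by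
    intro a ha a' ha'
    obtain ⟨haC, hab⟩ := (hAhm a).1 ha
    obtain ⟨ha'C, hab'⟩ := (hAhm a').1 ha'
    have e : P.π (⟨a, haC⟩ * ⟨a', ha'C⟩ * (⟨a, haC⟩ : C)⁻¹ * (⟨a', ha'C⟩ : C)⁻¹) = 1 := by
      rw [map_mul, map_mul, map_mul, map_inv, map_inv, (hAcomm _ hab _ hab').eq]; group
    obtain ⟨m, hm⟩ := mem_powers_iff_mem_zpowers.2 (P.eq_one_iff.1 e)
    have hd : a * a' * a⁻¹ = z ^ m * a' := by
      rw [show z ^ m = a * a' * a⁻¹ * a'⁻¹ from hm]; group
    obtain ⟨p, hp⟩ := hAhc a ha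
    obtain ⟨q, hq⟩ := hAhc a' ha'
    have hzc : ∀ g ∈ C, ∀ l : ℕ, Commute (z ^ l) g := fun g hg l => (hcz' g hg).symm.pow_left l
    have h1 : c * (a * a' * a⁻¹) * c⁻¹ = c * (z ^ m * a') * c⁻¹ := by rw [hd]
    rw [show c * (a * a' * a⁻¹) * c⁻¹ = (c * a * c⁻¹) * (c * a' * c⁻¹) * (c * a * c⁻¹)⁻¹ by group,
      show c * (z ^ m * a') * c⁻¹ = (c * z ^ m * c⁻¹) * (c * a' * c⁻¹) by group,
      ← (hzc c hcC m).eq, mul_inv_cancel_right, hp, hq,
      show z ^ p * a ^ β * (z ^ q * a' ^ β) * (z ^ p * a ^ β)⁻¹ =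
        z ^ p * ((a ^ β * z ^ q) * a' ^ β * (a ^ β)⁻¹) * (z ^ p)⁻¹ by group,
      ← (hzc _ (pow_mem haC β) q).eq,
      show z ^ q * a ^ β * a' ^ β * (a ^ β)⁻¹ = z ^ q * (a ^ β * a' ^ β * (a ^ β)⁻¹) by group,
      conj_bilinear hd (hzc a haC m) (hzc a' ha'C m) β β,
      (hzc _ (mul_mem (pow_mem hzC q) (mul_mem (pow_mem (pow_mem hzC m) _) (pow_mem ha'C β))) p).eq,
      mul_inv_cancel_right] at h1
    rw [← mul_assoc, ← mul_assoc (z ^ m), mul_left_inj, ← pow_mul z, ← pow_add, ← pow_add, pow_eq_pow_iff_modEq,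
      hzo, ← ZMod.natCast_eq_natCast_iff] at h1
    push_cast at h1
    rw [hβb] at h1
    have hm0 : (m : ZMod 7) = 0 :=
      (mul_eq_zero.1 (show (m : ZMod 7) * ((b : ZMod 7) ^ 2 - 1) = 0 by linear_combination h1)).resolve_right
        (sub_ne_zero.2 hb)
    have hzm : z ^ m = 1 := by
      rw [← pow_zero z, pow_eq_pow_iff_modEq, hzo, ← ZMod.natCast_eq_natCast_iff, Nat.cast_zero]; exact hm0
    rw [hzm, one_mul] at hd
    exact mul_inv_eq_iff_eq_mul.1 hd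
  -- `A`
  let A : Subgroup G :=
    { carrier := {a | a ∈ Ah ∧ c * a * c⁻¹ = a ^ β}
      one_mem' := ⟨one_mem _, by simp⟩
      mul_mem' := fun {a a'} ha ha' => ⟨mul_mem ha.1 ha'.1, by
        rw [show c * (a * a') * c⁻¹ = (c * a * c⁻¹) * (c * a' * c⁻¹) by group, ha.2, ha'.2,
          (hAhcomm a ha.1 a' ha'.1).mul_pow]⟩
      inv_mem' := fun {a} ha => ⟨inv_mem ha.1, by
        rw [show c * a⁻¹ * c⁻¹ = (c * a * c⁻¹)⁻¹ by group, ha.2, inv_pow]⟩ }
  have hzAh : z ∈ Ah := (hAhm z).2 ⟨hzC, by rw [P.eq_one_iff.2 (mem_zpowers z)]; exact one_mem _⟩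
  have hβ1 : (β : ZMod 7) ≠ 1 := hβb ▸ hb1
  -- `Ah = ⟨z⟩ A`
  have hproj : ∀ a ∈ Ah, ∃ s : ℕ, z ^ s * a ∈ A := by
    intro a ha
    obtain ⟨m, hm⟩ := hAhc a ha
    refine ⟨((m : ZMod 7) / ((β : ZMod 7) - 1)).val, mul_mem (pow_mem hzAh _) ha, ?_⟩
    set s := ((m : ZMod 7) / ((β : ZMod 7) - 1)).val with hs
    have haC := ((hAhm a).1 ha).1
    rw [show c * (z ^ s * a) * c⁻¹ = (c * z ^ s * c⁻¹) * (c * a * c⁻¹) by group,
      ((hcz' c hcC).pow_right s).eq, mul_inv_cancel_right, hm, ((hcz' a haC).symm.pow_left s).mul_pow, ← mul_assoc,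
      ← pow_add, ← pow_mul z]
    congr 1
    rw [pow_eq_pow_iff_modEq, hzo, ← ZMod.natCast_eq_natCast_iff]
    push_cast
    have hne := sub_ne_zero.2 hβ1
    rw [hs, ZMod.natCast_zmod_val]
    field_simp
    ring
  have hzA : ∀ s : ℕ, z ^ s ∈ A → z ^ s = 1 := by
    intro s hs
    refine eq_one_of_pow_eq (m := 1) (by rw [pow_one, ← pow_mul, mul_comm, pow_mul, hz7, one_pow]) ?_ hβ1
    rw [← hs.2, ((hcz' c hcC).pow_right s).eq, mul_inv_cancel_right]
  have hAC : ∀ a : A, (a : G) ∈ C := fun a => ((hAhm _).1 a.2.1).1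
  have hcardA : Nat.card A = 7 ^ i := by
    rw [← hAbc]
    refine Nat.card_eq_of_bijective (fun a : A => (⟨P.π ⟨a, hAC a⟩, ((hAhm _).1 a.2.1).2⟩ : Ab)) ⟨?_, ?_⟩
    · intro a a' h
      have h' : P.π ⟨a, hAC a⟩ = P.π ⟨a', hAC a'⟩ := congrArg Subtype.val h
      have e : P.π (⟨a, hAC a⟩ * (⟨a', hAC a'⟩ : C)⁻¹) = 1 := by rw [map_mul, map_inv, h', mul_inv_cancel]
      obtain ⟨s, hs⟩ := mem_powers_iff_mem_zpowers.2 (P.eq_one_iff.1 e)
      have hs' : z ^ s = (a : G) * (a' : G)⁻¹ := hs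
      have h1 := hzA s (hs' ▸ mul_mem a.2 (inv_mem a'.2))
      rw [hs', mul_inv_eq_one] at h1
      exact Subtype.ext h1
    · rintro ⟨u, hu⟩
      obtain ⟨h, rfl⟩ := P.surj u
      obtain ⟨s, hs⟩ := hproj h ((hAhm _).2 ⟨h.2, hu⟩)
      refine ⟨⟨z ^ s * h, hs⟩, Subtype.ext ?_⟩
      show P.π _ = P.π h
      rw [show (⟨z ^ s * (h : G), hAC ⟨_, hs⟩⟩ : C) = ⟨z, hzC⟩ ^ s * h from Subtype.ext rfl, map_mul, map_pow,
        P.eq_one_iff.2 (mem_zpowers z), one_pow, one_mul]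
  have hxAh : ∀ a ∈ Ah, x * a * x⁻¹ ∈ Ah := by
    intro a ha
    obtain ⟨haC, hab⟩ := (hAhm a).1 ha
    refine (hAhm _).2 ⟨mul_mem (mul_mem hxC haC) (inv_mem hxC), ?_⟩
    rw [show (⟨x * a * x⁻¹, _⟩ : C) = xC * ⟨a, haC⟩ * xC⁻¹ from Subtype.ext rfl, map_mul, map_mul, map_inv]
    exact hxA _ hab
  have hyA' : y ∈ A := by
    refine ⟨(hAhm y).2 ⟨hyC, hybA⟩, ?_⟩
    rw [hcy, pow_eq_pow_iff_modEq, hyo, ← ZMod.natCast_eq_natCast_iff]; exact hβb.symm
  have hzcomm : ∀ a ∈ A, Commute z a := fun a ha => (hcz' a ((hAhm a).1 ha.1).1).symm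
  have hxA' : ∀ a ∈ A, x * a * x⁻¹ ∈ A := fun a ha => ⟨hxAh a ha.1, by
    rw [show c * (x * a * x⁻¹) * c⁻¹ = (c * x) * a * (c * x)⁻¹ by group, hcx.eq,
      show x * c * a * (x * c)⁻¹ = x * (c * a * c⁻¹) * x⁻¹ by group, ha.2, conj_pow]⟩
  refine ⟨A, β, ⟨hi, hxo, hyo, hcx, hyA', hyx, fun a ha a' ha' => hAhcomm a ha.1 a' ha'.1, hcardA,
    fun a ha => ha.2, by rw [hβb]; exact hb, hxA', hzcomm, ?_, hnz, hcz, hc7, ?_⟩⟩
  · -- `C_A(x) = ⟨y⟩`
    intro a ha hax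
    obtain ⟨haC, hab⟩ := (hAhm a).1 ha.1
    obtain ⟨-, k, l, hkl⟩ := hfix ⟨a, haC⟩ hab (by
      show P.π _ * P.π xC = P.π xC * P.π _
      rw [← map_mul, ← map_mul]
      exact congrArg P.π (Subtype.ext hax.eq))
    have hkA : x ^ k ∈ A := by
      have h : a * (y ^ l)⁻¹ ∈ A := mul_mem ha (inv_mem (pow_mem hyA' l))
      rwa [show a = x ^ k * y ^ l from hkl, mul_inv_cancel_right] at h
    have hxk : x ^ k = 1 := by
      refine eq_one_of_pow_eq (m := i) (by rw [← pow_mul, mul_comm, pow_mul, ← hxo, pow_orderOf_eq_one, one_pow]) ?_ hβ1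
      rw [← hkA.2, (hcx.pow_right k).eq, mul_inv_cancel_right]
    rw [show a = x ^ k * y ^ l from hkl, hxk, one_mul]
    exact pow_mem (mem_zpowers y) l
  -- the elements fixing `z` and `y`
  intro h hhz hhy hhS
  have hhC : h ∈ C := mem_centralizer_singleton_iff.2 hhz.eq
  have hSC : sSub x A ≤ C := sup_le (zpowers_le.2 hxC) fun a ha => ((hAhm a).1 ha.1).1
  have hcardS : Nat.card (sSub x A) = 7 ^ (2 * i) := by
    have e1 := Nat.card_eq_of_bijective (fun w : zpowers x × A =>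
      (⟨(w.1 : G) * w.2, mul_mem (mem_sup_left w.1.2) (mem_sup_right w.2.2)⟩ : ↥(sSub x A))) ⟨?_, ?_⟩
    · rw [← e1, Nat.card_prod, Nat.card_zpowers, hxo, hcardA, ← pow_add, two_mul]
    · rintro ⟨⟨a₁, ha₁⟩, ⟨b₁, hb₁⟩⟩ ⟨⟨a₂, ha₂⟩, ⟨b₂, hb₂⟩⟩ h'
      have h'' : a₁ * b₁ = a₂ * b₂ := congrArg Subtype.val h'
      have hm : b₁ * b₂⁻¹ ∈ zpowers x := by
        rw [show b₁ * b₂⁻¹ = a₁⁻¹ * (a₁ * b₁) * b₂⁻¹ by group, h'', show a₁⁻¹ * (a₂ * b₂) * b₂⁻¹ = a₁⁻¹ * a₂ by group]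
        exact mul_mem (inv_mem ha₁) ha₂
      obtain ⟨k, hk⟩ := mem_powers_iff_mem_zpowers.2 hm
      have hk' : x ^ k = b₁ * b₂⁻¹ := hk
      have hkA : x ^ k ∈ A := hk' ▸ mul_mem hb₁ (inv_mem hb₂)
      have hxk : x ^ k = 1 := by
        refine eq_one_of_pow_eq (m := i) (by rw [← pow_mul, mul_comm, pow_mul, ← hxo, pow_orderOf_eq_one, one_pow]) ?_ hβ1
        rw [← hkA.2, (hcx.pow_right k).eq, mul_inv_cancel_right]
      rw [hk', mul_inv_eq_one] at hxk
      subst hxk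
      exact Prod.ext (Subtype.ext (mul_right_cancel h'')) rfl
    · rintro ⟨s, hs⟩
      obtain ⟨k, a, ha, rfl⟩ := (mem_join hxA').1 hs
      exact ⟨(⟨x ^ k, pow_mem (mem_zpowers x) k⟩, ⟨a, ha⟩), rfl⟩
  have hSmax : ∀ g : G, g ∈ C → (∀ s ∈ sSub x A, g * s * g⁻¹ ∈ sSub x A) → (∃ q : ℕ, g ^ 7 ^ q = 1) →
      g ∈ sSub x A := by
    rintro g hg hgS ⟨q, hq⟩
    obtain ⟨r, -, hr⟩ := (Nat.dvd_prime_pow h7).1 (orderOf_dvd_of_pow_eq_one hq)
    have hn : zpowers g ≤ normalizer (sSub x A : Set G) := by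
      refine zpowers_le.2 (mem_normalizer_iff.2 fun s => ⟨hgS s, fun hs => ?_⟩)
      have hle : (sSub x A).map (MulAut.conj g).toMonoidHom ≤ sSub x A := by rintro _ ⟨v, hv, rfl⟩; exact hgS v hv
      have heq := Subgroup.eq_of_le_of_card_ge hle (by rw [card_map_of_injective (MulAut.conj g).injective])
      rw [← heq] at hs
      obtain ⟨v, hv, hvs⟩ := hs
      exact (MulAut.conj g).injective hvs ▸ hv
    have hJp := (IsPGroup.of_card (G := zpowers g) (p := 7) (n := r) (by rw [Nat.card_zpowers, hr])).to_sup_of_normal_right'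
      (IsPGroup.of_card hcardS) hn
    obtain ⟨qj, hqj⟩ := hJp.exists_card_eq
    have hJ : sSub x A = zpowers g ⊔ sSub x A := Subgroup.eq_of_le_of_card_ge le_sup_right (by
      rw [hqj, hcardS]
      refine Nat.pow_le_pow_right (by norm_num) ?_
      by_contra hlt
      exact hcz ((pow_dvd_pow 7 (show 2 * i + 1 ≤ qj by omega)).trans
        (hqj ▸ card_dvd_of_le (sup_le (zpowers_le.2 hg) hSC))))
    exact hJ ▸ mem_sup_left (mem_zpowers g)
  -- the parts of `h`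
  set o := orderOf h with ho
  have ho0 : o ≠ 0 := (orderOf_pos h).ne'
  set f := 7 ^ o.factorization 7 with hf
  set g := h ^ f with hg
  have hgo : g ^ (o / f) = 1 := by
    rw [hg, ← pow_mul, Nat.mul_div_cancel' (Nat.ordProj_dvd o 7), ho, pow_orderOf_eq_one]
  have hcop : (o / f).Coprime 7 := ((h7.coprime_iff_not_dvd).2 (Nat.not_dvd_ordCompl h7 ho0)).symm
  have hgC : g ∈ C := pow_mem hhC f
  have hgy : Commute g y := hhy.pow_left f
  have hgS : ∀ s ∈ sSub x A, g * s * g⁻¹ ∈ sSub x A := fun s hs => conj_pow_mem hhS f hs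
  suffices hg1 : g = 1 from hSmax h hhC hhS ⟨o.factorization 7, hg1⟩
  set gC : C := ⟨g, hgC⟩
  set gb := P.π gC
  have hgbM : gb ∈ M := hmemM gb (o / f)
    (by rw [← map_pow, show gC ^ (o / f) = 1 from Subtype.ext hgo, map_one]) hcop
  have hgby : Commute gb yb := by
    show P.π gC * P.π yC = P.π yC * P.π gC
    rw [← map_mul, ← map_mul]
    exact congrArg P.π (Subtype.ext hgy.eq)
  have hgAh : ∀ a ∈ Ah, Commute g a := by
    intro a ha
    obtain ⟨haC, hab⟩ := (hAhm a).1 ha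
    have e : P.π (gC * ⟨a, haC⟩ * gC⁻¹ * (⟨a, haC⟩ : C)⁻¹) = 1 := by
      rw [map_mul, map_mul, map_mul, map_inv, map_inv, (hUc gb hgbM _ (hAbM hab) hgby (hyA _ hab)).eq,
        show P.π gC = gb from rfl]; group
    obtain ⟨m, hm⟩ := mem_powers_iff_mem_zpowers.2 (P.eq_one_iff.1 e)
    have hd : g * a * g⁻¹ = z ^ m * a := by rw [show z ^ m = g * a * g⁻¹ * a⁻¹ from hm]; group
    have h1 := conj_bilinear hd ((hcz' g hgC).symm.pow_left m) ((hcz' a haC).symm.pow_left m) (o / f) 1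
    rw [hgo, pow_one, one_mul, inv_one, mul_one, mul_one, right_eq_mul, ← pow_mul] at h1
    have hm7 : z ^ m = 1 := by
      refine orderOf_eq_one_iff.1 (Nat.eq_one_of_dvd_coprimes hcop ?_ ?_)
      · exact orderOf_dvd_of_pow_eq_one (by rw [← pow_mul]; exact h1)
      · exact orderOf_dvd_of_pow_eq_one (by rw [← pow_mul, mul_comm, pow_mul, hz7, one_pow])
    rw [hm7, one_mul] at hd
    exact mul_inv_eq_iff_eq_mul.1 hd
  -- `g` commutes with `x`
  set d := g * x * g⁻¹ * x⁻¹ with hd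
  have hdS : d ∈ sSub x A :=
    mul_mem (hgS x (mem_sup_left (mem_zpowers x))) (inv_mem (mem_sup_left (mem_zpowers x)))
  have hdC : d ∈ C := hSC hdS
  have hdA : d ∈ Ah := by
    refine (hAhm d).2 ⟨hdC, ?_⟩
    have hdb : P.π ⟨d, hdC⟩ = gb * (xb * gb⁻¹ * xb⁻¹) := by
      rw [show (⟨d, hdC⟩ : C) = gC * (xC * gC⁻¹ * xC⁻¹) from Subtype.ext (by simp [hd, gC, xC]; group), map_mul,
        map_mul, map_mul, map_inv, map_inv]
    rw [hdb]
    have hxg : Commute (xb * gb⁻¹ * xb⁻¹) yb := by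
      have h := (Commute.conj_iff xb).2 hgby.inv_left
      rwa [hxby.eq, mul_inv_cancel_right] at h
    refine huniq _ (mul_mem hgbM (Subgroup.Normal.conj_mem inferInstance _ (inv_mem hgbM) xb)) (hgby.mul_left hxg) ?_
    obtain ⟨q, hq⟩ := (IsPGroup.of_card hcardS) ⟨d, hdS⟩
    refine ⟨q, ?_⟩
    rw [← hdb, ← map_pow, show (⟨d, hdC⟩ : C) ^ 7 ^ q = 1 from Subtype.ext (by
      simpa using congrArg Subtype.val hq), map_one]
  have hgd := hgAh d hdA
  have hgx : Commute g x := by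
    have h1 : ∀ l : ℕ, g ^ l * x * (g ^ l)⁻¹ = d ^ l * x := by
      intro l
      induction l with
      | zero => simp
      | succ l ih =>
        calc g ^ (l + 1) * x * (g ^ (l + 1))⁻¹ = g * (g ^ l * x * (g ^ l)⁻¹) * g⁻¹ := by rw [pow_succ']; group
          _ = (g * d ^ l * g⁻¹) * (g * x * g⁻¹) := by rw [ih]; group
          _ = _ := by rw [(hgd.pow_right l).eq, mul_inv_cancel_right, pow_succ d l, hd]; group
    have h2 := h1 (o / f)
    rw [hgo, one_mul, inv_one, mul_one, right_eq_mul] at h2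
    obtain ⟨q, hq⟩ := (IsPGroup.of_card hcardS) ⟨d, hdS⟩
    have hq' : d ^ 7 ^ q = 1 := by simpa using congrArg Subtype.val hq
    have hd1 : d = 1 := orderOf_eq_one_iff.1 (Nat.eq_one_of_dvd_coprimes (hcop.pow_right q)
      (orderOf_dvd_of_pow_eq_one h2) (orderOf_dvd_of_pow_eq_one hq'))
    rw [hd, mul_inv_eq_one] at hd1
    exact mul_inv_eq_iff_eq_mul.1 hd1
  refine orderOf_eq_one_iff.1 (Nat.eq_one_iff_not_exists_prime_dvd.2 fun p hp hpd => ?_)
  have hpo : p ∣ o / f := hpd.trans (orderOf_dvd_of_pow_eq_one hgo)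
  have hpC : p ∣ Nat.card (centralizer ({x} : Set G)) :=
    hpd.trans (Subgroup.orderOf_dvd_natCard _ (mem_centralizer_singleton_iff.2 hgx.eq))
  have hp7 : p ≠ 7 := fun e => by
    rw [e] at hpo
    exact Nat.not_dvd_ordCompl h7 ho0 hpo
  have hg7 : orderOf g ∣ orderOf gb * 7 := by
    refine orderOf_dvd_of_pow_eq_one ?_
    have h1 : g ^ orderOf gb ∈ zpowers z :=
      (P.eq_one_iff (h := gC ^ orderOf gb)).1 (by rw [map_pow]; exact pow_orderOf_eq_one gb)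
    rw [pow_mul]
    exact orderOf_dvd_iff_pow_eq_one.1 (hzo ▸ orderOf_dvd_of_mem_zpowers h1)
  have hpb : p ∣ orderOf gb :=
    (hp.dvd_mul.1 (hpd.trans hg7)).resolve_right fun h => hp7 ((Nat.prime_dvd_prime_iff_eq hp h7).1 h)
  obtain ⟨h2, h3⟩ := hD p hp (hpb.trans (hUd gb hgbM hgby))
  rcases hCx p hp hpC with e | e | e
  exacts [h2 e, h3 e, hp7 e]

end Cfsg.Lib.Ree.SevenPow
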