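import Cfsg.Agent.Ree.SevenPow.Basic
import Cfsg.Agent.Ree.Transfer.Matrices

/-!
The elements of the normalizer of `S` map `z` into `z ⟨y⟩`; those of 7-power order centralize `y`.
-/

set_option autoImplicit false
set_option linter.unusedSectionVars false

namespace Cfsg.Lib.Ree.SevenPow

open Subgroup

universe u

variable {G : Type u} [Group G] [Finite G] {i : ℕ} {x y c : G} {A : Subgroup G} {β : ℕ}

local notation "z₀" => x ^ 7 ^ (i - 1)
local notation "S₀" => sSub x A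
local notation "N₀" => normalizer ((sSub x A : Subgroup G) : Set G)

theorem card_seven : (7 : ℕ).Prime := by norm_num

instance fact_seven : Fact (Nat.Prime 7) := ⟨card_seven⟩

theorem pow_seven (v : ZMod 7) (m : ℕ) : v ^ 7 ^ m = v := by
  induction m with
  | zero => simp
  | succ m ih => rw [pow_succ 7 m, pow_mul, ZMod.pow_card]; exact ih

namespace SData

variable (D : SData i x y c A β)
include D

theorem norm_conj {g : G} (hg : g ∈ N₀) {s : G} (hs : s ∈ S₀) : g * s * g⁻¹ ∈ S₀ :=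
  (mem_normalizer_iff.1 hg s).1 hs

theorem conj_z_coord {g : G} (hg : g ∈ N₀) : ∃ a b : ℕ, g * z₀ * g⁻¹ = z₀ ^ a * y ^ b :=
  D.conj_W (fun _ hs => D.norm_conj hg hs) D.z_mem (fun _ hs => D.z_comm hs) D.z_pow

theorem conj_y_coord {g : G} (hg : g ∈ N₀) : ∃ a b : ℕ, g * y * g⁻¹ = z₀ ^ a * y ^ b :=
  D.conj_W (fun _ hs => D.norm_conj hg hs) (D.A_le D.yA) (fun _ hs => D.y_comm hs) D.y_pow

theorem first_ne {g : G} {a b : ℕ} (h : g * z₀ * g⁻¹ = z₀ ^ a * y ^ b) : (a : ZMod 7) ≠ 0 := by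
  intro ha
  refine D.not_mem_y g ?_
  rw [h, D.zy_congr (a' := 0) (b' := b) (by simpa using ha) rfl, pow_zero, one_mul]
  exact pow_mem (mem_zpowers y) b

/-- A subgroup of 7-power order above `S` centralizing `z` is `S`. -/
theorem eq_S_of_cent {Q : Subgroup G} (hQ : IsPGroup 7 Q) (hSQ : S₀ ≤ Q) (hQz : ∀ q ∈ Q, Commute q z₀) : Q = S₀ := by
  refine (Subgroup.eq_of_le_of_card_ge hSQ ?_).symm
  obtain ⟨n, hn⟩ := hQ.exists_card_eq
  rw [hn, D.card_S]
  refine Nat.pow_le_pow_right (by norm_num) ?_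
  by_contra hlt
  refine D.cz ((pow_dvd_pow 7 (show 2 * i + 1 ≤ n by omega)).trans (hn ▸ card_dvd_of_le fun q hq => ?_))
  exact mem_centralizer_singleton_iff.2 (hQz q hq).eq

theorem mem_S_of_cent {u : G} {m : ℕ} (hu : u ∈ N₀) (hu7 : u ^ 7 ^ m = 1) (hz : Commute u z₀) : u ∈ S₀ := by
  have hp : IsPGroup 7 (zpowers u) := by
    obtain ⟨j, -, hj⟩ := (Nat.dvd_prime_pow card_seven).1 (orderOf_dvd_of_pow_eq_one hu7)
    exact IsPGroup.of_card (n := j) (by rw [Nat.card_zpowers, hj])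
  have h := D.eq_S_of_cent (hp.to_sup_of_normal_right' D.pGroup_S (zpowers_le.2 hu)) le_sup_right fun q hq => by
    have hle : zpowers u ⊔ S₀ ≤ centralizer ({z₀} : Set G) :=
      sup_le (zpowers_le.2 (mem_centralizer_singleton_iff.2 hz.eq))
        fun s hs => mem_centralizer_singleton_iff.2 (D.z_comm hs).symm.eq
    exact mem_centralizer_singleton_iff.1 (hle hq)
  rw [← h]
  exact mem_sup_left (mem_zpowers u)

/-- An element of 7-power order moving `z` fixes the line of `y`. -/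
theorem y_line {u : G} {m : ℕ} (hu : u ∈ N₀) (hu7 : u ^ 7 ^ m = 1) (hz : ¬ Commute u z₀) :
    ∃ b : ℕ, u * y * u⁻¹ = y ^ b := by
  classical
  have hN : ∀ k : ℕ, u ^ k ∈ N₀ := fun k => pow_mem hu k
  choose p r hpr using fun k : ℕ => D.conj_z_coord (hN k)
  set sl : ℕ → ZMod 7 := fun k => (r k : ZMod 7) / (p k : ZMod 7) with hsl
  have hline : ∀ k (a b : ℕ), (b : ZMod 7) = (a : ZMod 7) * sl k →
      ∃ l : ℕ, z₀ ^ a * y ^ b = (u ^ k * z₀ * (u ^ k)⁻¹) ^ l := by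
    intro k a b hb
    have hp : (p k : ZMod 7) ≠ 0 := D.first_ne (hpr k)
    refine ⟨((a : ZMod 7) / (p k : ZMod 7)).val, ?_⟩
    rw [hpr k, D.zy_pow]
    refine D.zy_congr ?_ ?_
    · push_cast
      rw [ZMod.natCast_zmod_val]; field_simp
    · push_cast
      rw [ZMod.natCast_zmod_val, hb, hsl]; field_simp
  have hinj : Function.Injective (fun k : Fin 7 => sl k) := by
    have key : ∀ k l : ℕ, k < l → l < 7 → sl k = sl l → False := by
      intro k l hkl hl he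
      have hp : (p k : ZMod 7) ≠ 0 := D.first_ne (hpr k)
      have hp' : (p l : ZMod 7) ≠ 0 := D.first_ne (hpr l)
      obtain ⟨e, he'⟩ := hline k (p l) (r l) (by rw [he, hsl]; field_simp)
      rw [← hpr l, conj_pow] at he'
      have hd : u ^ (l - k) * z₀ * (u ^ (l - k))⁻¹ = z₀ ^ e := by
        rw [show u ^ l = u ^ k * u ^ (l - k) by rw [← pow_add]; congr 1; omega] at he'
        calc u ^ (l - k) * z₀ * (u ^ (l - k))⁻¹
            = (u ^ k)⁻¹ * (u ^ k * u ^ (l - k) * z₀ * (u ^ k * u ^ (l - k))⁻¹) * u ^ k := by group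
          _ = z₀ ^ e := by rw [he']; group
      have hfix := D.norm _ (hd ▸ pow_mem (mem_zpowers _) e)
      have hc : Commute (u ^ (l - k)) z₀ := mul_inv_eq_iff_eq_mul.1 hfix
      refine hz ?_
      obtain ⟨j, hj⟩ := exists_pow_eq_self_of_coprime (x := u) (n := l - k) (by
        refine Nat.Coprime.coprime_dvd_right (orderOf_dvd_of_pow_eq_one hu7) (Nat.Coprime.pow_right m ?_)
        exact ((card_seven.coprime_iff_not_dvd).2 fun hd => by
          have := Nat.le_of_dvd (by omega) hd; omega).symm)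
      exact hj ▸ hc.pow_left j
    intro k l he
    rcases lt_trichotomy (k : ℕ) l with h | h | h
    · exact (key k l h l.2 he).elim
    · exact Fin.ext h
    · exact (key l k h k.2 he.symm).elim
  have hbij := (Fintype.bijective_iff_injective_and_card _).2 ⟨hinj, by simp⟩
  obtain ⟨a, b, hab⟩ := D.conj_y_coord hu
  by_cases ha : (a : ZMod 7) = 0
  · exact ⟨b, by rw [hab, D.zy_congr (a' := 0) (b' := b) (by simpa using ha) rfl, pow_zero, one_mul]⟩
  exfalso
  obtain ⟨k, hk⟩ := hbij.2 ((b : ZMod 7) / (a : ZMod 7))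
  obtain ⟨l, hl⟩ := hline k a b (by simp only at hk; rw [hk]; field_simp)
  rw [← hab] at hl
  set g := u⁻¹ * u ^ (k : ℕ) with hg
  have hyg : y = (g * z₀ * g⁻¹) ^ l := by
    calc y = u⁻¹ * (u * y * u⁻¹) * u := by group
      _ = _ := by rw [hl, conj_pow, conj_pow, hg]; group
  refine D.not_mem_y g ?_
  have hg7 : (g * z₀ * g⁻¹) ^ 7 = 1 := by rw [conj_pow, D.z_pow]; group
  have hco : l.Coprime 7 := ((card_seven.coprime_iff_not_dvd).2 fun hd => by
    obtain ⟨j, rfl⟩ := hd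
    have h1 := D.yo
    rw [hyg, pow_mul, hg7, one_pow, orderOf_one] at h1
    omega).symm
  obtain ⟨j, hj⟩ := exists_pow_eq_self_of_coprime (hco.coprime_dvd_right (orderOf_dvd_of_pow_eq_one hg7))
  rw [← hj, ← hyg]
  exact pow_mem (mem_zpowers y) j

theorem pow_fixed {u : G} {b : ℕ} (h : u * y * u⁻¹ = y ^ b) (k : ℕ) : u ^ k * y * (u ^ k)⁻¹ = y ^ b ^ k := by
  induction k with
  | zero => simp
  | succ k ih =>
    rw [pow_succ' u k, show u * u ^ k * y * (u * u ^ k)⁻¹ = u * (u ^ k * y * (u ^ k)⁻¹) * u⁻¹ by group, ih, ← conj_pow,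
      h, ← pow_mul, ← pow_succ']

/-- The elements of 7-power order of the normalizer fix `y` and move `z` by powers of `y`. -/
theorem seven_fix {u : G} {m : ℕ} (hu : u ∈ N₀) (hu7 : u ^ 7 ^ m = 1) :
    u * y * u⁻¹ = y ∧ ∃ e : ℕ, u * z₀ * u⁻¹ = z₀ * y ^ e := by
  by_cases hz : Commute u z₀
  · have huS := D.mem_S_of_cent hu hu7 hz
    exact ⟨by rw [← (D.y_comm huS).eq, mul_inv_cancel_right], 0, by rw [hz.eq, mul_inv_cancel_right, pow_zero, mul_one]⟩
  obtain ⟨b, hb⟩ := D.y_line hu hu7 hz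
  have hpc : ∀ v : ZMod 7, v ^ 7 ^ m = v := fun v => pow_seven v m
  have hy : u * y * u⁻¹ = y := by
    have h1 := D.pow_fixed hb (7 ^ m)
    rw [hu7] at h1
    have h2 : z₀ ^ 0 * y ^ 1 = z₀ ^ 0 * y ^ b ^ 7 ^ m := by rw [← h1]; simp
    obtain ⟨-, e⟩ := D.coord h2
    push_cast at e
    rw [hpc] at e
    rw [hb, ← one_mul (y ^ b), ← pow_zero z₀, D.zy_congr (a' := 0) (b' := 1) rfl (by simpa using e.symm)]
    simp
  refine ⟨hy, ?_⟩
  obtain ⟨p, r, hpr⟩ := D.conj_z_coord hu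
  have hit : ∀ k : ℕ, ∃ r' : ℕ, u ^ k * z₀ * (u ^ k)⁻¹ = z₀ ^ p ^ k * y ^ r' := by
    intro k
    induction k with
    | zero => exact ⟨0, by simp⟩
    | succ k ih =>
      obtain ⟨r', hr'⟩ := ih
      refine ⟨r * p ^ k + r', ?_⟩
      calc u ^ (k + 1) * z₀ * (u ^ (k + 1))⁻¹ = u * (u ^ k * z₀ * (u ^ k)⁻¹) * u⁻¹ := by rw [pow_succ']; group
        _ = (u * z₀ * u⁻¹) ^ p ^ k * (u * y * u⁻¹) ^ r' := by rw [hr', conj_pow, conj_pow]; group
        _ = _ := by rw [hpr, hy, D.zy_pow, mul_assoc, ← pow_add, ← pow_succ']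
  obtain ⟨r', hr'⟩ := hit (7 ^ m)
  rw [hu7] at hr'
  obtain ⟨e, -⟩ := D.coord (a := 1) (b := 0) (a' := p ^ 7 ^ m) (b' := r') (by rw [← hr']; simp)
  push_cast at e
  rw [hpc] at e
  exact ⟨r, by rw [hpr, D.zy_congr (a' := 1) (b' := r) (by simpa using e.symm) rfl, pow_one]⟩

/-- The matrix of an element of the normalizer on `⟨z, y⟩`. -/
theorem exists_rho : ∃ ρ : N₀ →* Transfer.M2 7, ∀ g : N₀, ∀ p r q s : ℕ,
    (g : G) * z₀ * (g : G)⁻¹ = z₀ ^ p * y ^ r → (g : G) * y * (g : G)⁻¹ = z₀ ^ q * y ^ s →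
      ρ g = !![(p : ZMod 7), (q : ZMod 7); (r : ZMod 7), (s : ZMod 7)] := by
  classical
  choose p r hpr using fun g : N₀ => D.conj_z_coord g.2
  choose q s hqs using fun g : N₀ => D.conj_y_coord g.2
  let f : N₀ → Transfer.M2 7 := fun g => !![(p g : ZMod 7), (q g : ZMod 7); (r g : ZMod 7), (s g : ZMod 7)]
  have huniq : ∀ g : N₀, ∀ p' r' q' s' : ℕ, (g : G) * z₀ * (g : G)⁻¹ = z₀ ^ p' * y ^ r' →
      (g : G) * y * (g : G)⁻¹ = z₀ ^ q' * y ^ s' →
      f g = !![(p' : ZMod 7), (q' : ZMod 7); (r' : ZMod 7), (s' : ZMod 7)] := by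
    intro g p' r' q' s' h1 h2
    obtain ⟨a1, a2⟩ := D.coord ((hpr g).symm.trans h1)
    obtain ⟨b1, b2⟩ := D.coord ((hqs g).symm.trans h2)
    simp [f, a1, a2, b1, b2]
  refine ⟨⟨⟨f, ?_⟩, ?_⟩, huniq⟩
  · rw [huniq 1 1 0 0 1 (by simp) (by simp), Matrix.one_fin_two]
    simp
  · intro g h
    show f (g * h) = f g * f h
    have e : ∀ a b : ℕ, (g : G) * (z₀ ^ a * y ^ b) * (g : G)⁻¹ =
        z₀ ^ (p g * a + q g * b) * y ^ (r g * a + s g * b) := by
      intro a b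
      rw [show (g : G) * (z₀ ^ a * y ^ b) * (g : G)⁻¹ =
        ((g : G) * z₀ ^ a * (g : G)⁻¹) * ((g : G) * y ^ b * (g : G)⁻¹) by group, ← conj_pow (i := a), ← conj_pow (i := b), hpr g,
        hqs g, D.zy_pow, D.zy_pow, D.zy_mul]
    rw [huniq (g * h) (p g * p h + q g * r h) (r g * p h + s g * r h) (p g * q h + q g * s h) (r g * q h + s g * s h)
      (by rw [← e, ← hpr h, Subgroup.coe_mul]; group)
      (by rw [← e, ← hqs h, Subgroup.coe_mul]; group)]
    simp [f, Matrix.mul_fin_two]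

theorem c_mem : c ∈ N₀ := by
  have hmap : ∀ s ∈ S₀, c * s * c⁻¹ ∈ S₀ := by
    intro s hs
    obtain ⟨k, a, ha, rfl⟩ := D.mem_S.1 hs
    rw [show c * (x ^ k * a) * c⁻¹ = (c * x ^ k * c⁻¹) * (c * a * c⁻¹) by group, (D.cx.pow_right k).eq,
      mul_inv_cancel_right, D.wt a ha]
    exact mul_mem (D.xpow_mem k) (pow_mem (D.A_le ha) β)
  refine mem_normalizer_iff.2 fun s => ⟨hmap s, fun hs => ?_⟩
  have hle : (S₀).map (MulAut.conj c).toMonoidHom ≤ S₀ := by rintro _ ⟨v, hv, rfl⟩; exact hmap v hv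
  have heq := Subgroup.eq_of_le_of_card_ge hle (by rw [card_map_of_injective (MulAut.conj c).injective])
  rw [← heq] at hs
  obtain ⟨v, hv, hvs⟩ := hs
  have : v = s := (MulAut.conj c).injective hvs
  exact this ▸ hv

/-- The normalizer of `S` maps `z` into `z ⟨y⟩`. -/
theorem conj_z {g : G} (hg : g ∈ N₀) : ∃ e : ℕ, g * z₀ * g⁻¹ = z₀ * y ^ e := by
  classical
  obtain ⟨p, r, hpr⟩ := D.conj_z_coord hg
  suffices hp : (p : ZMod 7) = 1 from
    ⟨r, by rw [hpr, D.zy_congr (a' := 1) (b' := r) (by simpa using hp) rfl, pow_one]⟩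
  have hone : ∀ h ∈ N₀, ∀ a b : ℕ, h * z₀ * h⁻¹ = z₀ ^ a * y ^ b → (b : ZMod 7) = 0 → (a : ZMod 7) = 1 := by
    intro h _ a b hab hb
    rw [D.zy_congr (a' := a) (b' := 0) rfl (by simpa using hb), pow_zero, mul_one] at hab
    have h2 := D.norm h (hab ▸ pow_mem (mem_zpowers _) a)
    rw [hab] at h2
    simpa using (D.coord (a := a) (b := 0) (a' := 1) (b' := 0) (by rw [h2]; simp)).1
  by_cases hex : ∃ u ∈ N₀, ∃ m : ℕ, u ^ 7 ^ m = 1 ∧ ¬ Commute u z₀
  · obtain ⟨u, hu, m, hu7, huz⟩ := hex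
    obtain ⟨huy, e, hue⟩ := D.seven_fix hu hu7
    have he : (e : ZMod 7) ≠ 0 := fun h0 => huz (mul_inv_eq_iff_eq_mul.1 (by
      rw [hue, ← pow_one z₀, D.zy_congr (a := 1) (b := e) (a' := 1) (b' := 0) rfl (by simpa using h0)]; simp))
    -- `g` preserves the line of `y`
    obtain ⟨hvy, -⟩ := D.seven_fix (u := g * u * g⁻¹) (m := m) (mul_mem (mul_mem hg hu) (inv_mem hg))
      (by rw [conj_pow, hu7]; group)
    obtain ⟨a, b, hab⟩ := D.conj_y_coord (inv_mem hg)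
    have hfix : u * (g⁻¹ * y * g⁻¹⁻¹) * u⁻¹ = g⁻¹ * y * g⁻¹⁻¹ := by
      calc u * (g⁻¹ * y * g⁻¹⁻¹) * u⁻¹ = g⁻¹ * ((g * u * g⁻¹) * y * (g * u * g⁻¹)⁻¹) * g := by group
        _ = _ := by rw [hvy]; group
    rw [hab] at hfix
    have ha : (a : ZMod 7) = 0 := by
      have h1 : u * (z₀ ^ a * y ^ b) * u⁻¹ = z₀ ^ a * y ^ (e * a + b) := by
        rw [show u * (z₀ ^ a * y ^ b) * u⁻¹ = (u * z₀ ^ a * u⁻¹) * (u * y ^ b * u⁻¹) by group, ← conj_pow (i := a), ← conj_pow (i := b),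
          hue, huy, (D.zy_comm.pow_right e).mul_pow, mul_assoc, ← pow_mul y, ← pow_add]
      obtain ⟨-, e2⟩ := D.coord (h1.symm.trans hfix)
      push_cast at e2
      exact (mul_eq_zero.1 (show (e : ZMod 7) * a = 0 by linear_combination e2)).resolve_left he
    rw [D.zy_congr (a' := 0) (b' := b) (by simpa using ha) rfl, pow_zero, one_mul] at hab
    have hgy : g * y ^ b * g⁻¹ = y := by rw [← hab]; group
    obtain ⟨q, s, hqs⟩ := D.conj_y_coord hg
    have hco := D.coord (a := q * b) (b := s * b) (a' := 0) (b' := 1) (by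
      rw [← D.zy_pow, ← hqs, conj_pow, hgy]; simp)
    push_cast at hco
    have hb0 : (b : ZMod 7) ≠ 0 := fun h => by rw [h, mul_zero] at hco; exact zero_ne_one hco.2
    have hs0 : (s : ZMod 7) ≠ 0 := fun h => by rw [h, zero_mul] at hco; exact zero_ne_one hco.2
    have hq0 : (q : ZMod 7) = 0 := (mul_eq_zero.1 hco.1).resolve_right hb0
    set k := (-(r : ZMod 7) / ((s : ZMod 7) * e)).val with hk
    have hit : ∀ k : ℕ, u ^ k * z₀ * (u ^ k)⁻¹ = z₀ * y ^ (e * k) := by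
      intro k
      induction k with
      | zero => simp
      | succ k ih =>
        calc u ^ (k + 1) * z₀ * (u ^ (k + 1))⁻¹ = u * (u ^ k * z₀ * (u ^ k)⁻¹) * u⁻¹ := by rw [pow_succ']; group
          _ = (u * z₀ * u⁻¹) * (u * y * u⁻¹) ^ (e * k) := by rw [ih, conj_pow]; group
          _ = _ := by rw [hue, huy, mul_assoc, ← pow_add]; congr 2; ring
    have hgu : (g * u ^ k) * z₀ * (g * u ^ k)⁻¹ = z₀ ^ (p + q * (e * k)) * y ^ (r + s * (e * k)) := by
      calc (g * u ^ k) * z₀ * (g * u ^ k)⁻¹ = g * (u ^ k * z₀ * (u ^ k)⁻¹) * g⁻¹ := by group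
        _ = (g * z₀ * g⁻¹) * (g * y * g⁻¹) ^ (e * k) := by rw [hit, conj_pow]; group
        _ = _ := by rw [hpr, hqs, D.zy_pow, D.zy_mul]
    have h := hone _ (mul_mem hg (pow_mem hu k)) _ _ hgu (by
      push_cast
      rw [hk, ZMod.natCast_zmod_val]; field_simp; ring)
    push_cast at h
    rw [hq0, zero_mul, add_zero] at h
    exact h
  · push Not at hex
    obtain ⟨ρ, hρ⟩ := D.exists_rho
    have hcol : ∀ h : N₀, ∀ a b : ℕ, (h : G) * z₀ * (h : G)⁻¹ = z₀ ^ a * y ^ b →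
        ρ h 0 0 = a ∧ ρ h 1 0 = b := by
      intro h a b hab
      obtain ⟨q, s, hqs⟩ := D.conj_y_coord h.2
      rw [hρ h a b q s hab hqs]
      simp
    let σ := ρ.toHomUnits
    have hS : ¬ 7 ∣ Nat.card σ.range := by
      intro hd
      obtain ⟨⟨γ, ⟨h, hh⟩⟩, hγ⟩ := exists_prime_orderOf_dvd_card' (G := σ.range) 7 hd
      replace hγ : orderOf γ = 7 := (Subgroup.orderOf_coe _).trans hγ
      set o := orderOf (h : G) with ho
      have ho0 : o ≠ 0 := (orderOf_pos _).ne'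
      set w := h ^ (o / 7 ^ o.factorization 7) with hw
      have hw7 : (w : G) ^ 7 ^ o.factorization 7 = 1 := by
        rw [hw, SubmonoidClass.coe_pow, ← pow_mul, Nat.div_mul_cancel (Nat.ordProj_dvd o 7), ho,
          pow_orderOf_eq_one]
      have hwS := D.mem_S_of_cent w.2 hw7 (hex _ w.2 _ hw7)
      have h1 : ρ w = 1 := by
        rw [hρ w 1 0 0 1 (by rw [← (D.z_comm hwS).eq, mul_inv_cancel_right]; simp)
          (by rw [← (D.y_comm hwS).eq, mul_inv_cancel_right]; simp), Matrix.one_fin_two]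
        simp
      have h2 : γ ^ (o / 7 ^ o.factorization 7) = 1 := by
        rw [← hh, ← map_pow]
        exact Units.ext h1
      have h3 := orderOf_dvd_of_pow_eq_one h2
      rw [hγ] at h3
      exact Nat.not_dvd_ordCompl card_seven ho0 h3
    set cN : N₀ := ⟨c, D.c_mem⟩
    have hc := hρ cN 1 0 0 β (by rw [show (cN : G) = c from rfl, D.c_z.eq, mul_inv_cancel_right]; simp)
      (by rw [show (cN : G) = c from rfl, D.c_y]; simp)
    have hf := Transfer.fixes_first (r := 7) (by norm_num) σ.range hS (w := σ cN) ⟨cN, rfl⟩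
      (by show ρ cN 0 0 = 1; rw [hc]; simp) (by show ρ cN 1 0 = 0; rw [hc]; simp)
      (by show ρ cN 1 1 ^ 2 ≠ 1; rw [hc]; simpa using D.hβ) ?_ (σ ⟨g, hg⟩) ⟨_, rfl⟩
    · rw [← (hcol ⟨g, hg⟩ p r hpr).1]; exact hf.2
    · rintro _ ⟨h, rfl⟩ h0
      obtain ⟨a, b, hab⟩ := D.conj_z_coord h.2
      obtain ⟨e1, e2⟩ := hcol h a b hab
      show ρ h 0 0 = 1
      rw [e1]
      exact hone _ h.2 a b hab (by rw [← e2]; exact h0)

end SData

end Cfsg.Lib.Ree.SevenPow
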