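import Cfsg.Agent.Ree.SevenPow.Fusion
import Mathlib.GroupTheory.IndexNormal

/-!
A 7-group `P` between `S` and its normalizer: `A` is normal with abelian quotient, and the conjugates of `z` in `P`
with a centralizer as large as `S` lie in `z ⟨y⟩`.
-/

set_option autoImplicit false
set_option linter.unusedSectionVars false

namespace Cfsg.Lib.Ree.SevenPow

open Subgroup

universe u

variable {G : Type u} [Group G] [Finite G] {i : ℕ} {x y c : G} {A : Subgroup G} {β : ℕ}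

local notation "z₀" => x ^ 7 ^ (i - 1)
local notation "S₀" => sSub x A
local notation "N₀" => normalizer ((sSub x A : Subgroup G) : Set G)

theorem exists_pow_one {P : Subgroup G} (hP : IsPGroup 7 P) {n : G} (hn : n ∈ P) : ∃ m : ℕ, n ^ 7 ^ m = 1 := by
  obtain ⟨m, hm⟩ := hP ⟨n, hn⟩
  exact ⟨m, by simpa using congrArg Subtype.val hm⟩

namespace SData

variable (D : SData i x y c A β)
include D

theorem card_join {B : Subgroup G} (hB : B ≤ A) (hxB : ∀ b ∈ B, x * b * x⁻¹ ∈ B) :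
    Nat.card ↥(zpowers x ⊔ B) = 7 ^ i * Nat.card B := by
  have e := Nat.card_eq_of_bijective (fun w : zpowers x × B =>
    (⟨(w.1 : G) * w.2, mul_mem (mem_sup_left w.1.2) (mem_sup_right w.2.2)⟩ : ↥(zpowers x ⊔ B))) ⟨?_, ?_⟩
  · rw [← e, Nat.card_prod, Nat.card_zpowers, D.xo]
  · rintro ⟨⟨u, hu⟩, a⟩ ⟨⟨v, hv⟩, b⟩ h
    obtain ⟨k, hk⟩ := mem_powers_iff_mem_zpowers.2 hu
    obtain ⟨l, hl⟩ := mem_powers_iff_mem_zpowers.2 hv
    have h' := congrArg Subtype.val h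
    simp only at h' hk hl
    subst hk hl
    obtain ⟨e1, e2⟩ := D.unique (hB a.2) (hB b.2) h'
    exact Prod.ext (Subtype.ext e1) (Subtype.ext e2)
  · rintro ⟨s, hs⟩
    obtain ⟨k, a, ha, rfl⟩ := (mem_join hxB).1 hs
    exact ⟨(⟨x ^ k, pow_mem (mem_zpowers x) k⟩, ⟨a, ha⟩), rfl⟩

/-- The subgroups of order `|S|` centralizing `z` are conjugate to `S` under the centralizer of `z`. -/
theorem conj_to_S {Q : Subgroup G} (hQ : Nat.card Q = 7 ^ (2 * i)) (hQz : ∀ q ∈ Q, Commute q z₀) :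
    ∃ h : G, Commute h z₀ ∧ ∀ q ∈ Q, h * q * h⁻¹ ∈ S₀ := by
  set C := centralizer ({z₀} : Set G) with hC
  have hQC : Q ≤ C := fun q hq => mem_centralizer_singleton_iff.2 (hQz q hq).eq
  have hSC : S₀ ≤ C := fun s hs => mem_centralizer_singleton_iff.2 (D.z_comm hs).symm.eq
  obtain ⟨P₁, hP₁⟩ := ((IsPGroup.of_card hQ).comap_of_injective C.subtype C.subtype_injective).exists_le_sylow
  obtain ⟨P₂, hP₂⟩ := (D.pGroup_S.comap_of_injective C.subtype C.subtype_injective).exists_le_sylow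
  have hP₂eq : (S₀).comap C.subtype = (P₂ : Subgroup C) := Subgroup.eq_of_le_of_card_ge hP₂ (by
    obtain ⟨n, hn⟩ := P₂.2.exists_card_eq
    have e : Nat.card ((S₀).subgroupOf C) = 7 ^ (2 * i) := by
      rw [Nat.card_congr (subgroupOfEquivOfLe hSC).toEquiv, D.card_S]
    rw [hn, show Nat.card ↥((S₀).comap C.subtype) = 7 ^ (2 * i) from e]
    refine Nat.pow_le_pow_right (by norm_num) ?_
    by_contra hlt
    exact D.cz ((pow_dvd_pow 7 (show 2 * i + 1 ≤ n by omega)).trans (hn ▸ card_subgroup_dvd_card _)))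
  obtain ⟨k, hk⟩ := MulAction.exists_smul_eq C P₁ P₂
  refine ⟨k, mem_centralizer_singleton_iff.1 k.2, fun q hq => ?_⟩
  have h1 : k * ⟨q, hQC hq⟩ * k⁻¹ ∈ (P₂ : Subgroup C) := hk ▸ ⟨⟨q, hQC hq⟩, hP₁ hq, rfl⟩
  rw [← hP₂eq] at h1
  exact h1

variable {P : Subgroup G} (hP : IsPGroup 7 P) (hSP : sSub x A ≤ P)
  (hN : P ≤ normalizer ((sSub x A : Subgroup G) : Set G))
include hP hSP hN

omit hSP in
theorem p_fix_y {n : G} (hn : n ∈ P) : n * y * n⁻¹ = y := by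
  obtain ⟨m, hm⟩ := exists_pow_one hP hn
  exact (D.seven_fix (hN hn) hm).1

omit hSP in
theorem p_z {n : G} (hn : n ∈ P) : ∃ e : ℕ, n * z₀ * n⁻¹ = z₀ * y ^ e := by
  obtain ⟨m, hm⟩ := exists_pow_one hP hn
  exact (D.seven_fix (hN hn) hm).2

omit hSP in
theorem p_z_pow {n : G} (hn : n ∈ P) {e : ℕ} (he : n * z₀ * n⁻¹ = z₀ * y ^ e) (k : ℕ) :
    n ^ k * z₀ * (n ^ k)⁻¹ = z₀ * y ^ (e * k) := by
  induction k with
  | zero => simp
  | succ k ih =>
    calc n ^ (k + 1) * z₀ * (n ^ (k + 1))⁻¹ = n * (n ^ k * z₀ * (n ^ k)⁻¹) * n⁻¹ := by rw [pow_succ']; group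
      _ = (n * z₀ * n⁻¹) * (n * y * n⁻¹) ^ (e * k) := by rw [ih, conj_pow]; group
      _ = _ := by rw [he, D.p_fix_y hP hN hn, mul_assoc, ← pow_add]; congr 2; ring

omit hSP in
theorem mem_S_of_fix {n : G} (hn : n ∈ P) (hz : Commute n z₀) : n ∈ S₀ := by
  obtain ⟨m, hm⟩ := exists_pow_one hP hn
  exact D.mem_S_of_cent (hN hn) hm hz

/-- The element `c` acts on `P / S` as the power `β`. -/
theorem twist {n : G} (hn : n ∈ P) : ∃ s ∈ S₀, c * n * c⁻¹ = n ^ β * s := by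
  set n' := c * n * c⁻¹ with hn'
  refine ⟨(n ^ β)⁻¹ * n', ?_, (mul_inv_cancel_left _ _).symm⟩
  obtain ⟨e, he⟩ := D.p_z hP hN hn
  have hz' : n' * z₀ * n'⁻¹ = z₀ * y ^ (e * β) := by
    calc n' * z₀ * n'⁻¹ = c * (n * (c⁻¹ * z₀ * c) * n⁻¹) * c⁻¹ := by rw [hn']; group
      _ = c * (z₀ * y ^ e) * c⁻¹ := by rw [mul_assoc c⁻¹, ← D.c_z.eq, inv_mul_cancel_left, he]
      _ = (c * z₀ * c⁻¹) * (c * y * c⁻¹) ^ e := by rw [conj_pow]; group
      _ = _ := by rw [D.c_z.eq, mul_inv_cancel_right, D.c_y, ← pow_mul, mul_comm]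
  have hy' : n' * y * n'⁻¹ = y := by
    have h1 : n' * (y ^ β) * n'⁻¹ = y ^ β := by
      rw [← D.c_y, hn', show c * n * c⁻¹ * (c * y * c⁻¹) * (c * n * c⁻¹)⁻¹ = c * (n * y * n⁻¹) * c⁻¹ by group,
        D.p_fix_y hP hN hn]
    obtain ⟨j, hj⟩ := exists_pow_eq_self_of_coprime (x := y) (n := β) (by
      rw [D.yo]
      exact ((card_seven.coprime_iff_not_dvd).2 fun hd =>
        D.beta_ne_zero ((ZMod.natCast_eq_zero_iff β 7).2 hd)).symm)
    conv_lhs => rw [← hj, ← conj_pow, h1, hj]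
  have hcz : Commute ((n ^ β)⁻¹ * n') z₀ := by
    refine mul_inv_eq_iff_eq_mul.1 ?_
    calc (n ^ β)⁻¹ * n' * z₀ * ((n ^ β)⁻¹ * n')⁻¹ = (n ^ β)⁻¹ * (n' * z₀ * n'⁻¹) * n ^ β := by group
      _ = z₀ := by rw [hz', ← D.p_z_pow hP hN hn he]; group
  have hcy : Commute ((n ^ β)⁻¹ * n') y := by
    refine mul_inv_eq_iff_eq_mul.1 ?_
    have h1 : n ^ β * y * (n ^ β)⁻¹ = y := D.p_fix_y hP hN (pow_mem hn β)
    calc (n ^ β)⁻¹ * n' * y * ((n ^ β)⁻¹ * n')⁻¹ = (n ^ β)⁻¹ * (n' * y * n'⁻¹) * n ^ β := by group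
      _ = (n ^ β)⁻¹ * (n ^ β * y * (n ^ β)⁻¹) * n ^ β := by rw [hy', h1]
      _ = y := by group
  exact D.fixW _ hcz hcy fun s hs =>
    D.norm_conj (mul_mem (inv_mem (pow_mem (hN hn) β)) (mul_mem (mul_mem D.c_mem (hN hn)) (inv_mem D.c_mem))) hs

/-- `A` is normal in `P`. -/
theorem A_normal : ∀ n ∈ P, ∀ a ∈ A, n * a * n⁻¹ ∈ A := by
  classical
  let A0 : Subgroup G :=
    { carrier := {a | a ∈ A ∧ ∀ n ∈ P, n * a * n⁻¹ ∈ A}
      one_mem' := ⟨one_mem A, fun n _ => by simp [one_mem]⟩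
      mul_mem' := fun {a b} ha hb => ⟨mul_mem ha.1 hb.1, fun n hn => by
        rw [show n * (a * b) * n⁻¹ = (n * a * n⁻¹) * (n * b * n⁻¹) by group]
        exact mul_mem (ha.2 n hn) (hb.2 n hn)⟩
      inv_mem' := fun {a} ha => ⟨inv_mem ha.1, fun n hn => by
        rw [show n * a⁻¹ * n⁻¹ = (n * a * n⁻¹)⁻¹ by group]
        exact inv_mem (ha.2 n hn)⟩ }
  suffices h : ∀ a ∈ A, a ∈ A0 from fun n hn a ha => (h a ha).2 n hn
  by_contra hc
  push Not at hc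
  obtain ⟨a₁, ha₁, ha₁0⟩ := hc
  have hA0A : A0 ≤ A := fun a ha => ha.1
  have hA0n : ∀ n ∈ P, ∀ a ∈ A0, n * a * n⁻¹ ∈ A0 := fun n hn a ha => ⟨ha.2 n hn, fun m hm => by
    rw [show m * (n * a * n⁻¹) * m⁻¹ = (m * n) * a * (m * n)⁻¹ by group]
    exact ha.2 _ (mul_mem hm hn)⟩
  have hxP : x ∈ P := hSP (by simpa using D.xpow_mem 1)
  have hxA0 : ∀ a ∈ A0, x * a * x⁻¹ ∈ A0 := hA0n x hxP
  have hyA0 : y ∈ A0 := ⟨D.yA, fun n hn => by rw [D.p_fix_y hP hN hn]; exact D.yA⟩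
  set B := zpowers x ⊔ A0 with hB
  let N : Subgroup G :=
    { carrier := {v | v ∈ B ∧ ∀ n ∈ P, n * v * n⁻¹ ∈ B}
      one_mem' := ⟨one_mem B, fun n _ => by simp [one_mem]⟩
      mul_mem' := fun {a b} ha hb => ⟨mul_mem ha.1 hb.1, fun n hn => by
        rw [show n * (a * b) * n⁻¹ = (n * a * n⁻¹) * (n * b * n⁻¹) by group]
        exact mul_mem (ha.2 n hn) (hb.2 n hn)⟩
      inv_mem' := fun {a} ha => ⟨inv_mem ha.1, fun n hn => by
        rw [show n * a⁻¹ * n⁻¹ = (n * a * n⁻¹)⁻¹ by group]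
        exact inv_mem (ha.2 n hn)⟩ }
  have hBS : B ≤ S₀ := sup_le le_sup_left (hA0A.trans le_sup_right)
  have hNS : N < S₀ := by
    refine lt_of_le_of_ne (fun v hv => hBS hv.1) fun e => ha₁0 ?_
    obtain ⟨k, b, hb, he⟩ := (mem_join hxA0).1 ((show a₁ ∈ N from e.symm ▸ D.A_le ha₁).1)
    obtain ⟨-, e2⟩ := D.unique (k := 0) (l := k) ha₁ (hA0A hb) (by simpa using he)
    exact e2 ▸ hb
  have hNn : ∀ n ∈ P, ∀ v ∈ N, n * v * n⁻¹ ∈ N := fun n hn v hv => ⟨hv.2 n hn, fun m hm => by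
    rw [show m * (n * v * n⁻¹) * m⁻¹ = (m * n) * v * (m * n)⁻¹ by group]
    exact hv.2 _ (mul_mem hm hn)⟩
  obtain ⟨v, hvS, hvN, hvc⟩ := exists_next hP hSP hNS hNn fun n hn s hs => D.norm_conj (hN hn) hs
  -- the `A`-part of `v`
  obtain ⟨k, a, ha, rfl⟩ := D.mem_S.1 hvS
  have hcN : ∀ {b : G}, b ∈ N → c * b * c⁻¹ ∈ N := by
    intro b hb
    obtain ⟨l, b0, hb0, hbe⟩ := (mem_join hxA0).1 hb.1
    have hcb : c * b * c⁻¹ = x ^ l * b0 ^ β := by
      rw [hbe, show c * (x ^ l * b0) * c⁻¹ = (c * x ^ l * c⁻¹) * (c * b0 * c⁻¹) by group, (D.cx.pow_right l).eq,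
        mul_inv_cancel_right, D.wt _ (hA0A hb0)]
    have hnb : b⁻¹ * (c * b * c⁻¹) ∈ A0 := by
      rw [hcb, hbe, show (x ^ l * b0)⁻¹ * (x ^ l * b0 ^ β) = b0⁻¹ * b0 ^ β by group]
      exact mul_mem (inv_mem hb0) (pow_mem hb0 β)
    rw [show c * b * c⁻¹ = b * (b⁻¹ * (c * b * c⁻¹)) by group]
    exact mul_mem hb ⟨mem_sup_right hnb, fun n hn => mem_sup_right (hA0n n hn _ hnb)⟩
  set v := x ^ k * a with hv
  have hA0N : A0 ≤ N := fun b hb => ⟨mem_sup_right hb, fun n hn => mem_sup_right (hA0n n hn _ hb)⟩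
  let Z : Subgroup G :=
    { carrier := {b | b ∈ P ∧ ∀ n ∈ P, n * b * n⁻¹ * b⁻¹ ∈ N}
      one_mem' := ⟨one_mem P, fun n _ => by simp [one_mem]⟩
      mul_mem' := fun {b b'} hb hb' => ⟨mul_mem hb.1 hb'.1, fun n hn => by
        rw [show n * (b * b') * n⁻¹ * (b * b')⁻¹ = (n * b * n⁻¹ * b⁻¹) * (b * (n * b' * n⁻¹ * b'⁻¹) * b⁻¹) by group]
        exact mul_mem (hb.2 n hn) (hNn b hb.1 _ (hb'.2 n hn))⟩
      inv_mem' := fun {b} hb => ⟨inv_mem hb.1, fun n hn => by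
        rw [show n * b⁻¹ * n⁻¹ * b⁻¹⁻¹ = b⁻¹ * (n * b * n⁻¹ * b⁻¹)⁻¹ * b⁻¹⁻¹ by group]
        exact hNn _ (inv_mem hb.1) _ (inv_mem (hb.2 n hn))⟩ }
  have hvP : v ∈ P := hSP hvS
  have hvZ : v ∈ Z := ⟨hvP, hvc⟩
  have hcP : ∀ n ∈ P, c * n * c⁻¹ ∈ P := fun n hn => by
    obtain ⟨s, hs, hcs⟩ := D.twist hP hSP hN hn
    exact hcs ▸ mul_mem (pow_mem hn β) (hSP hs)
  have hcP' : ∀ n ∈ P, ∃ m ∈ P, c * m * c⁻¹ = n := by
    intro n hn
    have hle : P.map (MulAut.conj c).toMonoidHom ≤ P := by rintro _ ⟨m, hm, rfl⟩; exact hcP m hm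
    have heq := Subgroup.eq_of_le_of_card_ge hle (by rw [card_map_of_injective (MulAut.conj c).injective])
    rw [← heq] at hn
    obtain ⟨m, hm, rfl⟩ := hn
    exact ⟨m, hm, rfl⟩
  have haβ : a⁻¹ * a ^ β ∈ Z := by
    have hcv : c * v * c⁻¹ ∈ Z := by
      refine ⟨hcP v hvP, fun n hn => ?_⟩
      obtain ⟨m, hm, rfl⟩ := hcP' n hn
      rw [show c * m * c⁻¹ * (c * v * c⁻¹) * (c * m * c⁻¹)⁻¹ * (c * v * c⁻¹)⁻¹ =
        c * (m * v * m⁻¹ * v⁻¹) * c⁻¹ by group]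
      exact hcN (hvc m hm)
    have e : c * v * c⁻¹ = x ^ k * a ^ β := by
      rw [hv, show c * (x ^ k * a) * c⁻¹ = (c * x ^ k * c⁻¹) * (c * a * c⁻¹) by group, (D.cx.pow_right k).eq,
        mul_inv_cancel_right, D.wt a ha]
    have h := mul_mem (inv_mem hvZ) hcv
    rwa [e, hv, show (x ^ k * a)⁻¹ * (x ^ k * a ^ β) = a⁻¹ * a ^ β by group] at h
  have haZ : a ∈ Z := by
    have hβ0 : β ≠ 0 := fun e => D.beta_ne_zero (by rw [e, Nat.cast_zero])
    have e : a⁻¹ * a ^ β = a ^ (β - 1) := by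
      rw [show a ^ β = a * a ^ (β - 1) by rw [← pow_succ', show β - 1 + 1 = β by omega]]; group
    rw [e] at haβ
    obtain ⟨j, hj⟩ := exists_pow_eq_self_of_coprime (x := a) (n := β - 1) (by
      refine Nat.Coprime.coprime_dvd_right (orderOf_dvd_of_pow_eq_one (D.a_pow ha)) (Nat.Coprime.pow_right i ?_)
      exact ((card_seven.coprime_iff_not_dvd).2 fun hd => by
        have h1 : (1 : ℕ) ≡ β [MOD 7] := (Nat.modEq_iff_dvd' (by omega)).2 hd
        exact D.beta_ne (by simpa using ((ZMod.natCast_eq_natCast_iff 1 β 7).2 h1).symm)).symm)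
    exact hj ▸ pow_mem haβ j
  have ha0 : a ∉ A0 := fun h0 => hvN ⟨by rw [hv]; exact (mem_join hxA0).2 ⟨k, a, h0, rfl⟩, fun n hn => by
    rw [show n * v * n⁻¹ = (n * v * n⁻¹ * v⁻¹) * v by group]
    exact mul_mem (hvc n hn).1 ((mem_join hxA0).2 ⟨k, a, h0, rfl⟩)⟩
  -- the last power outside `A0`
  have hex : ∃ m, a ^ 7 ^ m ∈ A0 := ⟨i, by rw [D.a_pow ha]; exact one_mem _⟩
  obtain ⟨m₀, hm₀⟩ : ∃ m₀, Nat.find hex = m₀ + 1 := Nat.exists_eq_succ_of_ne_zero fun e => ha0 (by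
    have h := Nat.find_spec hex
    rwa [e, pow_zero, pow_one] at h)
  set w := a ^ 7 ^ m₀ with hw
  have hw7 : w ^ 7 ∈ A0 := by
    have h := Nat.find_spec hex
    rwa [hm₀, pow_succ, pow_mul] at h
  have hw0 : w ∉ A0 := Nat.find_min hex (by omega)
  have hwA : w ∈ A := pow_mem ha _
  have hwZ : w ∈ Z := pow_mem haZ _
  refine hw0 ⟨hwA, fun n hn => ?_⟩
  have hxw : ∀ s ∈ S₀, s * w * s⁻¹ * w⁻¹ ∈ A0 := by
    intro s hs
    obtain ⟨l, b, hb, he⟩ := (mem_join hxA0).1 (hwZ.2 s (hSP hs)).1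
    have hmem : s * w * s⁻¹ * w⁻¹ ∈ A := mul_mem (D.conj_S hs hwA) (inv_mem hwA)
    obtain ⟨-, e2⟩ := D.unique (k := 0) (l := l) hmem (hA0A hb) (by simpa using he)
    exact e2 ▸ hb
  obtain ⟨l, b, hb, hl⟩ := (mem_join hxA0).1 (hwZ.2 n hn).1
  -- `x ^ l` has exponent 7
  set w' := x ^ l * (b * w) * (x ^ l)⁻¹ with hw'
  have hw'A : w' ∈ A := D.xconj l (mul_mem (hA0A hb) hwA)
  have hnw : n * w * n⁻¹ = w' * x ^ l := by
    rw [show n * w * n⁻¹ = (n * w * n⁻¹ * w⁻¹) * w by group, hl, hw']; group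
  have hpow : ∀ j : ℕ, ∃ a' ∈ A, (w' * x ^ l) ^ j = a' * x ^ (l * j) := by
    intro j
    induction j with
    | zero => exact ⟨1, one_mem A, by simp⟩
    | succ j ih =>
      obtain ⟨a', ha', he⟩ := ih
      refine ⟨a' * (x ^ (l * j) * w' * (x ^ (l * j))⁻¹), mul_mem ha' (D.xconj _ hw'A), ?_⟩
      rw [pow_succ, he, Nat.mul_succ, pow_add]; group
  obtain ⟨a', ha', he7⟩ := hpow 7
  have hxl : x ^ (l * 7) = 1 := by
    refine D.disj ?_
    have h7 : n * w ^ 7 * n⁻¹ ∈ A := hA0A (hA0n n hn _ hw7)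
    rw [← conj_pow, hnw, he7] at h7
    simpa using mul_mem (inv_mem ha') h7
  obtain ⟨j, hj⟩ : 7 ^ (i - 1) ∣ l := by
    rw [D.xpow_eq_one, show 7 ^ i = 7 ^ (i - 1) * 7 by
      rw [← pow_succ, show i - 1 + 1 = i by have := D.two_le; omega]] at hxl
    exact Nat.dvd_of_mul_dvd_mul_right (by norm_num) hxl
  have hnz : n * w * n⁻¹ = z₀ ^ j * (b * w) := by
    rw [show n * w * n⁻¹ = (n * w * n⁻¹ * w⁻¹) * w by group, hl, hj, pow_mul, mul_assoc]
  obtain ⟨e, he⟩ := D.p_z hP hN hn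
  have hzA : ∀ (m : ℕ) {d : G}, d ∈ A → Commute (z₀ ^ m) d := fun m d hd => (D.zA d hd).pow_left m
  have hit : ∀ m : ℕ, ∃ b' ∈ A0, n ^ m * w * (n ^ m)⁻¹ = z₀ ^ (j * m) * (b' * w) := by
    intro m
    induction m with
    | zero => exact ⟨1, one_mem _, by simp⟩
    | succ m ih =>
      obtain ⟨b', hb', hbe⟩ := ih
      refine ⟨y ^ (e * (j * m)) * (n * b' * n⁻¹) * b,
        mul_mem (mul_mem (pow_mem hyA0 _) (hA0n n hn _ hb')) hb, ?_⟩
      have hd : y ^ (e * (j * m)) * (n * b' * n⁻¹) ∈ A :=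
        mul_mem (pow_mem D.yA _) (hA0A (hA0n n hn _ hb'))
      calc n ^ (m + 1) * w * (n ^ (m + 1))⁻¹ = n * (n ^ m * w * (n ^ m)⁻¹) * n⁻¹ := by rw [pow_succ']; group
        _ = (n * z₀ * n⁻¹) ^ (j * m) * (n * b' * n⁻¹) * (n * w * n⁻¹) := by rw [hbe, conj_pow]; group
        _ = z₀ ^ (j * m) * ((y ^ (e * (j * m)) * (n * b' * n⁻¹)) * z₀ ^ j) * (b * w) := by
          rw [he, hnz, (D.zy_comm.pow_right e).mul_pow, ← pow_mul y]; simp only [mul_assoc]
        _ = _ := by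
          rw [← (hzA j hd).eq, Nat.mul_succ, pow_add]; simp only [mul_assoc]
  obtain ⟨b', hb', hbe⟩ := hit β
  obtain ⟨s, hs, hcs⟩ := D.twist hP hSP hN hn
  set d := s * w * s⁻¹ * w⁻¹ with hd
  have hd0 : d ∈ A0 := hxw s hs
  set d' := n ^ β * d * (n ^ β)⁻¹ with hd'
  have hd'0 : d' ∈ A0 := hA0n _ (pow_mem hn β) _ hd0
  have h1 : (c * n * c⁻¹) * w * (c * n * c⁻¹)⁻¹ = z₀ ^ (j * β) * (d' * b' * w) := by
    rw [hcs, show n ^ β * s * w * (n ^ β * s)⁻¹ = d' * (n ^ β * w * (n ^ β)⁻¹) by rw [hd', hd]; group, hbe,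
      ← mul_assoc d', ← (hzA (j * β) (hA0A hd'0)).eq]
    simp only [mul_assoc]
  have h2 : (c * n * c⁻¹) * w ^ β * (c * n * c⁻¹)⁻¹ = z₀ ^ j * ((b * w) ^ β) := by
    calc (c * n * c⁻¹) * w ^ β * (c * n * c⁻¹)⁻¹ = c * (n * (c⁻¹ * w ^ β * c) * n⁻¹) * c⁻¹ := by group
      _ = c * (n * w * n⁻¹) * c⁻¹ := by rw [← D.wt w hwA]; group
      _ = (c * z₀ ^ j * c⁻¹) * (c * (b * w) * c⁻¹) := by rw [hnz]; group
      _ = _ := by rw [(D.c_z.pow_right j).eq, mul_inv_cancel_right, D.wt _ (mul_mem (hA0A hb) hwA)]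
  rw [← conj_pow, h1, (hzA (j * β) (mul_mem (mul_mem (hA0A hd'0) (hA0A hb')) hwA)).mul_pow, ← pow_mul z₀] at h2
  rw [← pow_mul, ← pow_mul] at h2
  obtain ⟨e1, -⟩ := D.unique (pow_mem (mul_mem (mul_mem (hA0A hd'0) (hA0A hb')) hwA) β)
    (pow_mem (mul_mem (hA0A hb) hwA) β) h2
  obtain ⟨e3, -⟩ := D.coord (a := j * β * β) (b := 0) (a' := j) (b' := 0) (by
    rw [← pow_mul, ← pow_mul, e1])
  push_cast at e3
  have hj0 : (j : ZMod 7) = 0 :=
    (mul_eq_zero.1 (show (j : ZMod 7) * ((β : ZMod 7) ^ 2 - 1) = 0 by linear_combination e3)).resolve_right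
      (sub_ne_zero.2 D.hβ)
  rw [hnz, show z₀ ^ j = z₀ ^ j * y ^ 0 by simp, D.zy_congr (a' := 0) (b' := 0) (by simpa using hj0) rfl]
  simpa using mul_mem (hA0A hb) hwA

/-- `x` is central modulo `A`. -/
theorem x_central {n : G} (hn : n ∈ P) : n * x * n⁻¹ * x⁻¹ ∈ A := by
  have hA := D.A_normal hP hSP hN
  have hx : x ∈ S₀ := by simpa using D.xpow_mem 1
  obtain ⟨u, a, ha, hua⟩ := D.mem_S.1 (D.norm_conj (hN hn) hx)
  have hit : ∀ m : ℕ, ∃ b ∈ A, n ^ m * x * (n ^ m)⁻¹ = x ^ u ^ m * b := by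
    intro m
    induction m with
    | zero => exact ⟨1, one_mem A, by simp⟩
    | succ m ih =>
      obtain ⟨b, hb, hbe⟩ := ih
      have hp : ∀ k : ℕ, ∃ d ∈ A, (x ^ u * a) ^ k = x ^ (u * k) * d := by
        intro k
        induction k with
        | zero => exact ⟨1, one_mem A, by simp⟩
        | succ k ihk =>
          obtain ⟨d, hd, hde⟩ := ihk
          have hd' : (x ^ u)⁻¹ * d * x ^ u ∈ A := by
            have := D.conj_S (inv_mem (D.xpow_mem u)) hd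
            rwa [inv_inv] at this
          refine ⟨(x ^ u)⁻¹ * d * x ^ u * a, mul_mem hd' ha, ?_⟩
          rw [pow_succ, hde, Nat.mul_succ, pow_add]; group
      obtain ⟨d, hd, hde⟩ := hp (u ^ m)
      refine ⟨d * (n * b * n⁻¹), mul_mem hd (hA n hn b hb), ?_⟩
      calc n ^ (m + 1) * x * (n ^ (m + 1))⁻¹ = n * (n ^ m * x * (n ^ m)⁻¹) * n⁻¹ := by rw [pow_succ']; group
        _ = (n * x * n⁻¹) ^ u ^ m * (n * b * n⁻¹) := by rw [hbe, conj_pow]; group
        _ = _ := by rw [hua, hde, pow_succ' u m, mul_assoc]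
  -- conjugation by `c` gives `u ^ β = u`
  obtain ⟨s, hs, hcs⟩ := D.twist hP hSP hN hn
  obtain ⟨b, hb, hbe⟩ := hit β
  obtain ⟨k, e, he, rfl⟩ := D.mem_S.1 hs
  have hd : e * x * e⁻¹ * x⁻¹ ∈ A := by
    rw [show e * x * e⁻¹ * x⁻¹ = e * (x * e⁻¹ * x⁻¹) by group]
    exact mul_mem he (D.xA _ (inv_mem he))
  set d := x ^ k * (e * x * e⁻¹ * x⁻¹) * (x ^ k)⁻¹ with hddef
  have hdA : d ∈ A := D.xconj k hd
  have h1 : (c * n * c⁻¹) * x * (c * n * c⁻¹)⁻¹ = (n ^ β * d * (n ^ β)⁻¹) * (x ^ u ^ β * b) := by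
    rw [hcs, ← hbe]
    calc n ^ β * (x ^ k * e) * x * (n ^ β * (x ^ k * e))⁻¹
        = n ^ β * (x ^ k * (e * x * e⁻¹ * x⁻¹) * (x * (x ^ k)⁻¹)) * (n ^ β)⁻¹ := by group
      _ = _ := by rw [((Commute.refl x).pow_right k).inv_right.eq, hddef]; group
  have h2 : (c * n * c⁻¹) * x * (c * n * c⁻¹)⁻¹ = x ^ u * a ^ β := by
    calc (c * n * c⁻¹) * x * (c * n * c⁻¹)⁻¹ = c * (n * (c⁻¹ * x * c) * n⁻¹) * c⁻¹ := by group
      _ = c * (x ^ u * a) * c⁻¹ := by rw [mul_assoc c⁻¹, ← D.cx.eq, inv_mul_cancel_left, hua]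
      _ = (c * x ^ u * c⁻¹) * (c * a * c⁻¹) := by group
      _ = _ := by rw [(D.cx.pow_right u).eq, mul_inv_cancel_right, D.wt a ha]
  set d' := n ^ β * d * (n ^ β)⁻¹ with hd'
  have hd'A : d' ∈ A := hA _ (pow_mem hn β) _ hdA
  have hd'' : (x ^ u ^ β)⁻¹ * d' * x ^ u ^ β ∈ A := by
    have := D.conj_S (inv_mem (D.xpow_mem (u ^ β))) hd'A
    rwa [inv_inv] at this
  obtain ⟨eu, -⟩ := D.unique (k := u ^ β) (l := u) (mul_mem hd'' hb) (pow_mem ha β)
    (by rw [← h2, h1]; group)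
  obtain ⟨m, hm⟩ := exists_pow_one hP hn
  obtain ⟨b₁, hb₁, hb₁e⟩ := hit (7 ^ m)
  rw [hm] at hb₁e
  obtain ⟨eu7, -⟩ := D.unique (k := u ^ 7 ^ m) (l := 1) hb₁ (one_mem A) (by rw [← hb₁e]; simp)
  have hu1 : (u : ZMod (7 ^ i)) = 1 := by
    have hc1 := pow_eq_pow_iff_modEq.1 eu
    have hc2 := pow_eq_pow_iff_modEq.1 eu7
    rw [D.xo, ← ZMod.natCast_eq_natCast_iff, Nat.cast_pow] at hc1 hc2
    rw [Nat.cast_one] at hc2
    have hunit : IsUnit (u : ZMod (7 ^ i)) := IsUnit.of_pow_eq_one hc2 (pow_ne_zero m (by norm_num))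
    have hβ0 : β ≠ 0 := fun e => D.beta_ne_zero (by rw [e, Nat.cast_zero])
    have hβ1 : (u : ZMod (7 ^ i)) ^ (β - 1) = 1 := by
      refine hunit.mul_left_cancel (b := (u : ZMod (7 ^ i)) ^ (β - 1)) (c := 1) ?_
      rw [← pow_succ', show β - 1 + 1 = β by omega, mul_one]; exact hc1
    have hg : (u : ZMod (7 ^ i)) ^ Nat.gcd (β - 1) (7 ^ m) = 1 := pow_gcd_eq_one.2 ⟨hβ1, hc2⟩
    have hco : Nat.Coprime (β - 1) (7 ^ m) := by
      refine Nat.Coprime.pow_right m ?_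
      exact ((card_seven.coprime_iff_not_dvd).2 fun hd => by
        have h1 : (1 : ℕ) ≡ β [MOD 7] := (Nat.modEq_iff_dvd' (by omega)).2 hd
        exact D.beta_ne (by simpa using ((ZMod.natCast_eq_natCast_iff 1 β 7).2 h1).symm)).symm
    rwa [hco.gcd_eq_one, pow_one] at hg
  have hxu : x ^ u = x := by
    conv_rhs => rw [← pow_one x]
    rw [pow_eq_pow_iff_modEq, D.xo, ← ZMod.natCast_eq_natCast_iff]
    simpa using hu1
  rw [hua, hxu]
  exact D.xA a ha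

theorem S_central {n s : G} (hn : n ∈ P) (hs : s ∈ S₀) : n * s * n⁻¹ * s⁻¹ ∈ A := by
  have hA := D.A_normal hP hSP hN
  have hxk : ∀ k : ℕ, n * x ^ k * n⁻¹ * (x ^ k)⁻¹ ∈ A := by
    intro k
    induction k with
    | zero => simp [one_mem]
    | succ k ih =>
      rw [pow_succ', show n * (x * x ^ k) * n⁻¹ * (x * x ^ k)⁻¹ =
        (n * x * n⁻¹ * x⁻¹) * (x * (n * x ^ k * n⁻¹ * (x ^ k)⁻¹) * x⁻¹) by group]
      exact mul_mem (D.x_central hP hSP hN hn) (D.xA _ ih)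
  obtain ⟨k, a, ha, rfl⟩ := D.mem_S.1 hs
  rw [show n * (x ^ k * a) * n⁻¹ * (x ^ k * a)⁻¹ =
    (n * x ^ k * n⁻¹ * (x ^ k)⁻¹) * (x ^ k * (n * a * n⁻¹ * a⁻¹) * (x ^ k)⁻¹) by group]
  exact mul_mem (hxk k) (D.xconj k (mul_mem (hA n hn a ha) (inv_mem ha)))

/-- `P / A` is abelian. -/
theorem comm_mod {n n' : G} (hn : n ∈ P) (hn' : n' ∈ P) : n * n' * n⁻¹ * n'⁻¹ ∈ A := by
  by_cases hz : Commute n z₀
  · have hs := D.mem_S_of_fix hP hN hn hz
    rw [show n * n' * n⁻¹ * n'⁻¹ = (n' * n * n'⁻¹ * n⁻¹)⁻¹ by group]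
    exact inv_mem (D.S_central hP hSP hN hn' hs)
  obtain ⟨e, he⟩ := D.p_z hP hN hn
  obtain ⟨e', he'⟩ := D.p_z hP hN hn'
  have he0 : (e : ZMod 7) ≠ 0 := fun h => hz (mul_inv_eq_iff_eq_mul.1 (by
    rw [he, ← pow_one z₀, D.zy_congr (a := 1) (b := e) (a' := 1) (b' := 0) rfl (by simpa using h)]; simp))
  set k := ((e' : ZMod 7) / e).val with hk
  have hke : n ^ k * z₀ * (n ^ k)⁻¹ = n' * z₀ * n'⁻¹ := by
    rw [D.p_z_pow hP hN hn he, he']
    have := D.zy_congr (a := 1) (b := e * k) (a' := 1) (b' := e') rfl (by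
      push_cast; rw [hk, ZMod.natCast_zmod_val]; field_simp)
    simpa using this
  have hs : (n ^ k)⁻¹ * n' ∈ S₀ := D.mem_S_of_fix hP hN (mul_mem (inv_mem (pow_mem hn k)) hn')
    (mul_inv_eq_iff_eq_mul.1 (by
      rw [show (n ^ k)⁻¹ * n' * z₀ * ((n ^ k)⁻¹ * n')⁻¹ = (n ^ k)⁻¹ * (n' * z₀ * n'⁻¹) * n ^ k by group, ← hke]
      group))
  set s := (n ^ k)⁻¹ * n' with hsd
  have e1 : n' = n ^ k * s := by rw [hsd, mul_inv_cancel_left]
  rw [e1, show n * (n ^ k * s) * n⁻¹ * (n ^ k * s)⁻¹ = n ^ k * (n * s * n⁻¹ * s⁻¹) * (n ^ k)⁻¹ by group]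
  exact D.A_normal hP hSP hN _ (pow_mem hn k) _ (D.S_central hP hSP hN hn hs)

omit hSP in
theorem card_le : Nat.card P ≤ 7 * Nat.card S₀ := by
  classical
  choose e he using fun n : P => D.p_z hP hN n.2
  let f : P → ZMod 7 := fun n => (e n : ZMod 7)
  have hfix : ∀ n : P, ∀ v : ZMod 7, f n = v → ((Function.invFun f v : P) : G)⁻¹ * n ∈ S₀ := by
    intro n v hnv
    set r := Function.invFun f v with hr
    have hrv : f r = v := Function.invFun_eq ⟨n, hnv⟩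
    refine D.mem_S_of_fix hP hN (mul_mem (inv_mem r.2) n.2) (mul_inv_eq_iff_eq_mul.1 ?_)
    rw [show (r : G)⁻¹ * n * z₀ * ((r : G)⁻¹ * n)⁻¹ = (r : G)⁻¹ * ((n : G) * z₀ * (n : G)⁻¹) * r by group, he n,
      show z₀ * y ^ e n = z₀ * y ^ e r by
        simpa using D.zy_congr (a := 1) (b := e n) (a' := 1) (b' := e r) rfl (show f n = f r by rw [hnv, hrv]), ← he r]
    group
  calc Nat.card P ≤ Nat.card (ZMod 7 × S₀) :=
        Nat.card_le_card_of_injective (fun n => (f n, (⟨_, hfix n (f n) rfl⟩ : S₀))) fun a b h => by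
          obtain ⟨h1, h2⟩ := Prod.ext_iff.1 h
          have h2' := congrArg Subtype.val h2
          simp only at h1 h2'
          rw [h1] at h2'
          exact Subtype.ext (mul_left_cancel h2')
    _ = _ := by rw [Nat.card_prod, Nat.card_zmod]

/-- The conjugates of `z` in `P` with a centralizer as large as `S` lie in `z ⟨y⟩`. -/
theorem conj_cases {g : G} (hg : g * z₀ * g⁻¹ ∈ P)
    (hbig : 7 ^ (2 * i) ≤ Nat.card ↥(P ⊓ centralizer ({g * z₀ * g⁻¹} : Set G))) :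
    ∃ e : ℕ, g * z₀ * g⁻¹ = z₀ * y ^ e := by
  classical
  set v := g * z₀ * g⁻¹ with hv
  have hi := D.two_le
  have hx1 : x ∈ S₀ := by simpa using D.xpow_mem 1
  set Q := P ⊓ centralizer ({v} : Set G) with hQ
  -- `x ^ 7` commutes with `v`
  have hcomm : ∀ u ∈ S₀, Commute (u ^ 7) v := by
    intro u hu
    obtain ⟨n, hn⟩ := hP.exists_card_eq
    obtain ⟨q, hq⟩ := (hP.to_le (inf_le_left : Q ≤ P)).exists_card_eq
    have h1 := D.card_le hP hN
    rw [hn, D.card_S, ← pow_succ'] at h1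
    have hn1 := (Nat.pow_le_pow_iff_right (by norm_num : 1 < 7)).1 h1
    rw [hq] at hbig
    have hq1 := (Nat.pow_le_pow_iff_right (by norm_num : 1 < 7)).1 hbig
    have hmul := (Q.subgroupOf P).card_mul_index
    rw [Nat.card_congr (subgroupOfEquivOfLe (inf_le_left : Q ≤ P)).toEquiv, hq, hn] at hmul
    obtain ⟨d, -, hd⟩ := (Nat.dvd_prime_pow card_seven).1 (Dvd.intro_left _ hmul)
    rw [hd, ← pow_add] at hmul
    have hqd := Nat.pow_right_injective (by norm_num : 2 ≤ 7) hmul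
    have hmem : (⟨u, hSP hu⟩ : P) ^ 7 ∈ Q.subgroupOf P := by
      rcases (show d = 0 ∨ d = 1 by omega) with rfl | rfl
      · rw [pow_zero, Subgroup.index_eq_one] at hd
        rw [hd]; exact mem_top _
      · rw [pow_one] at hd
        haveI : (Q.subgroupOf P).Normal := Subgroup.normal_of_index_eq_minFac_card (by
          rw [hd, hn, Nat.Prime.pow_minFac card_seven (by omega)])
        have := (Q.subgroupOf P).pow_index_mem ⟨u, hSP hu⟩
        rwa [hd] at this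
    exact mem_centralizer_singleton_iff.1 (mem_subgroupOf.1 hmem).2
  have hx7 : Commute (x ^ 7) v := hcomm x hx1
  have hzx : z₀ = (x ^ 7) ^ 7 ^ (i - 2) := by
    rw [← pow_mul, ← pow_succ', show i - 2 + 1 = i - 1 by omega]
  have hvz : Commute v z₀ := by rw [hzx]; exact (hx7.pow_left _).symm
  have hvS : v ∈ S₀ := D.mem_S_of_fix hP hN hg hvz
  have hv7 : v ^ 7 = 1 := by rw [hv, conj_pow, D.z_pow]; group
  obtain ⟨k, w, hw, hkw⟩ := D.mem_S.1 hvS
  -- the exponent of the first part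
  have hpow : ∀ j : ℕ, ∃ w' ∈ A, v ^ j = x ^ (k * j) * w' := by
    intro j
    induction j with
    | zero => exact ⟨1, one_mem A, by simp⟩
    | succ j ih =>
      obtain ⟨w', hw', he⟩ := ih
      have hd : (x ^ k)⁻¹ * w' * x ^ k ∈ A := by
        have := D.conj_S (inv_mem (D.xpow_mem k)) hw'
        rwa [inv_inv] at this
      refine ⟨(x ^ k)⁻¹ * w' * x ^ k * w, mul_mem hd hw, ?_⟩
      rw [pow_succ, he, hkw, Nat.mul_succ, pow_add]; group
  obtain ⟨w', hw', he7⟩ := hpow 7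
  obtain ⟨hk7, -⟩ := D.unique (k := k * 7) (l := 0) hw' (one_mem A) (by rw [← he7, hv7]; simp)
  obtain ⟨a, ha⟩ : 7 ^ (i - 1) ∣ k := by
    rw [pow_zero, D.xpow_eq_one, show 7 ^ i = 7 ^ (i - 1) * 7 by rw [← pow_succ]; congr 1; omega] at hk7
    exact Nat.dvd_of_mul_dvd_mul_right (by norm_num) hk7
  have hvw : v = z₀ ^ a * w := by rw [hkw, ha, pow_mul]
  have hzw : Commute (z₀ ^ a) w := (D.zA w hw).pow_left a
  have hw7 : w ^ 7 = 1 := by
    rwa [hvw, hzw.mul_pow, ← pow_mul z₀, mul_comm a, pow_mul z₀, D.z_pow, one_pow, one_mul] at hv7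
  have hwx7 : Commute w (x ^ 7) := by
    have h : Commute ((z₀ ^ a)⁻¹ * v) (x ^ 7) :=
      (((Commute.pow_pow_self x _ _).pow_left a).inv_left).mul_left hx7.symm
    rwa [hvw, inv_mul_cancel_left] at h
  -- `w` is a power of `y`
  have hwy : w ∈ zpowers y := by
    by_contra hwy
    have hwx : ¬ Commute w x := fun h => hwy (D.fixA w hw h)
    -- `P` is larger than `S`
    obtain ⟨n, hn, hnS⟩ : ∃ n ∈ P, n ∉ S₀ := by
      by_contra hall
      push Not at hall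
      have hPS : P = S₀ := le_antisymm (fun n hn => hall n hn) hSP
      have hQS : Q = P := Subgroup.eq_of_le_of_card_ge inf_le_left (by rw [hPS, D.card_S]; exact hbig)
      have hxv : Commute x v := mem_centralizer_singleton_iff.1 (show x ∈ Q from hQS.symm ▸ hSP hx1).2
      refine hwx ?_
      have h : Commute ((z₀ ^ a)⁻¹ * v) x :=
        (((Commute.pow_self x _).pow_left a).inv_left).mul_left hxv.symm
      rwa [hvw, inv_mul_cancel_left] at h
    set K := A ⊓ centralizer ({x ^ 7} : Set G) with hK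
    have hxK : ∀ b ∈ K, x * b * x⁻¹ ∈ K := fun b hb => by
      refine ⟨D.xA b hb.1, mem_centralizer_singleton_iff.2 ?_⟩
      have h := (Commute.conj_iff x).2 (show Commute b (x ^ 7) from mem_centralizer_singleton_iff.1 hb.2)
      rwa [show x * x ^ 7 * x⁻¹ = x ^ 7 by group] at h
    have hK49 : Nat.card K ≤ 49 := by
      have hle : zpowers x ⊔ K ≤ centralizer ({x ^ 7} : Set G) :=
        sup_le (zpowers_le.2 (mem_centralizer_singleton_iff.2 (Commute.self_pow x 7).eq)) inf_le_right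
      obtain ⟨q, hq⟩ := (hP.to_le (show zpowers x ⊔ K ≤ P from le_trans (sup_le_sup_left inf_le_left _) hSP)).exists_card_eq
      have hd : 7 ^ q ∣ Nat.card (centralizer ({x ^ 7} : Set G)) := hq ▸ card_dvd_of_le hle
      rw [D.card_join inf_le_left hxK] at hq
      have hq2 : q ≤ i + 2 := by
        by_contra hlt
        exact D.c7 ((pow_dvd_pow 7 (show i + 3 ≤ q by omega)).trans hd)
      refine Nat.le_of_mul_le_mul_left ?_ (show 0 < 7 ^ i from pow_pos (by norm_num) i)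
      rw [hq, show (49 : ℕ) = 7 ^ 2 by norm_num, ← pow_add]
      exact Nat.pow_le_pow_right (by norm_num) hq2
    have hyK : y ∈ K := ⟨D.yA, mem_centralizer_singleton_iff.2 (D.yx.pow_right 7).eq⟩
    have hwK : w ∈ K := ⟨hw, mem_centralizer_singleton_iff.2 hwx7.eq⟩
    -- `K` is elementary of order 49
    have hgen : ∀ u ∈ K, u ∉ zpowers y → u ^ 7 = 1 → ∀ κ ∈ K, ∃ a b : ℕ, κ = y ^ a * u ^ b := by
      intro u hu huy hu7 κ hκ
      have hcu : Commute y u := D.comm y D.yA u hu.1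
      have hinj : Function.Injective (fun p : ZMod 7 × ZMod 7 =>
          (⟨y ^ p.1.val * u ^ p.2.val, mul_mem (pow_mem hyK _) (pow_mem hu _)⟩ : K)) := by
        rintro ⟨a₁, b₁⟩ ⟨a₂, b₂⟩ h
        have h' : y ^ a₁.val * u ^ b₁.val = y ^ a₂.val * u ^ b₂.val := congrArg Subtype.val h
        have huo : orderOf u = 7 := orderOf_eq_prime hu7 fun e => huy (e ▸ one_mem _)
        have hb : b₁ = b₂ := by
          by_contra hne
          have hd : ((b₁.val + (7 - b₂.val) : ℕ) : ZMod 7) ≠ 0 := by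
            have := ZMod.val_lt b₂
            rw [Nat.cast_add, Nat.cast_sub (by omega), ZMod.natCast_zmod_val, ZMod.natCast_zmod_val,
              ZMod.natCast_self, zero_sub, ← sub_eq_add_neg]
            exact sub_ne_zero.2 hne
          obtain ⟨j, hj⟩ := exists_pow_eq_self_of_coprime (x := u) (n := b₁.val + (7 - b₂.val)) (by
            rw [huo]
            exact ((card_seven.coprime_iff_not_dvd).2 fun h => hd ((ZMod.natCast_eq_zero_iff _ 7).2 h)).symm)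
          refine huy (hj ▸ pow_mem ?_ j)
          have e2 : u ^ (7 - b₂.val) = (u ^ b₂.val)⁻¹ := by
            rw [eq_inv_iff_mul_eq_one, ← pow_add, show 7 - b₂.val + b₂.val = 7 by
              have := ZMod.val_lt b₂; omega, hu7]
          rw [pow_add, e2, show u ^ b₁.val * (u ^ b₂.val)⁻¹ = (y ^ a₁.val)⁻¹ *
            (y ^ a₁.val * u ^ b₁.val) * (u ^ b₂.val)⁻¹ by group, h', mul_assoc, mul_assoc, mul_inv_cancel, mul_one]
          exact mul_mem (inv_mem (pow_mem (mem_zpowers y) _)) (pow_mem (mem_zpowers y) _)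
        subst hb
        have ha' := mul_right_cancel h'
        rw [pow_eq_pow_iff_modEq, D.yo, ← ZMod.natCast_eq_natCast_iff, ZMod.natCast_zmod_val,
          ZMod.natCast_zmod_val] at ha'
        exact Prod.ext ha' rfl
      haveI := Fintype.ofFinite K
      have hsurj := (Nat.bijective_iff_injective_and_card _).2 ⟨hinj, le_antisymm
        (Nat.card_le_card_of_injective _ hinj) (by simpa using hK49)⟩
      obtain ⟨p, hp⟩ := hsurj.2 ⟨κ, hκ⟩
      exact ⟨_, _, (congrArg Subtype.val hp).symm⟩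
    have hK7 : ∀ κ ∈ K, κ ^ 7 = 1 := fun κ hκ => by
      obtain ⟨a', b', rfl⟩ := hgen w hwK hwy hw7 κ hκ
      rw [((D.comm y D.yA w hw).pow_pow a' b').mul_pow, ← pow_mul, ← pow_mul, mul_comm a', mul_comm b', pow_mul,
        pow_mul, D.y_pow, hw7]
      simp
    -- `x` acts on `K` trivially modulo `⟨y⟩`
    have hKx : ∀ κ ∈ K, x * κ * x⁻¹ * κ⁻¹ ∈ zpowers y := by
      have hlt : zpowers y < K := lt_of_le_of_ne (zpowers_le.2 hyK) fun e => hwy (e ▸ hwK)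
      obtain ⟨u, hu, huy, huc⟩ := exists_next (D.pGroup_S) (le_trans inf_le_left D.A_le) hlt
        (fun s hs b hb => by rw [← ((show Commute b s from by
          obtain ⟨j, rfl⟩ := hb; exact (D.y_comm hs).zpow_left j)).eq, mul_inv_cancel_right]; exact hb)
        (fun s hs b hb => by
          obtain ⟨j, e, he, rfl⟩ := D.mem_S.1 hs
          rw [show x ^ j * e * b * (x ^ j * e)⁻¹ = x ^ j * (e * b * e⁻¹) * (x ^ j)⁻¹ by group,
            (D.comm e he b hb.1).eq, mul_inv_cancel_right]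
          exact conj_pow_mem hxK j hb)
      intro κ hκ
      obtain ⟨a', b', rfl⟩ := hgen u hu huy (hK7 u hu) κ hκ
      have h := huc x hx1
      have hyu : ∀ b : G, b ∈ zpowers y → Commute b u := fun b hb => by
        obtain ⟨j, rfl⟩ := hb; exact (D.comm y D.yA u hu.1).zpow_left j
      rw [show x * (y ^ a' * u ^ b') * x⁻¹ * (y ^ a' * u ^ b')⁻¹ =
        (x * y ^ a' * x⁻¹) * (x * u ^ b' * x⁻¹) * (u ^ b')⁻¹ * (y ^ a')⁻¹ by group,
        ← (D.yx.pow_left a').eq, mul_inv_cancel_right, ← conj_pow,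
        show x * u * x⁻¹ = (x * u * x⁻¹ * u⁻¹) * u by group, (hyu _ h).mul_pow, mul_assoc _ _ (u ^ b')⁻¹,
        mul_assoc _ _ (u ^ b')⁻¹, mul_inv_cancel, mul_one]
      exact mul_mem (mul_mem (pow_mem (mem_zpowers y) _) (pow_mem h _)) (inv_mem (pow_mem (mem_zpowers y) _))
    have hfix : ∀ m : G, m * x * m⁻¹ * x⁻¹ ∈ K → Commute m (x ^ 7) := by
      intro m hm
      set κ := m * x * m⁻¹ * x⁻¹ with hκ
      obtain ⟨d, hd⟩ := mem_powers_iff_mem_zpowers.2 (hKx κ hm)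
      simp only at hd
      have hyκ : Commute y κ := D.comm y D.yA κ hm.1
      have hxκ : x * κ = y ^ d * κ * x := by rw [hd]; group
      have hxj : ∀ j : ℕ, x ^ j * κ = y ^ (d * j) * κ * x ^ j := by
        intro j
        induction j with
        | zero => simp
        | succ j ih =>
          rw [pow_succ', mul_assoc, ih, ← mul_assoc, ← mul_assoc, ← (D.yx.pow_left (d * j)).eq, mul_assoc (y ^ _) x κ,
            hxκ, Nat.mul_succ, pow_add]
          group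
      have hj : ∀ j : ℕ, ∃ e : ℕ, 2 * e + d * j = d * j * j ∧ (κ * x) ^ j = κ ^ j * y ^ e * x ^ j := by
        intro j
        induction j with
        | zero => exact ⟨0, by simp, by simp⟩
        | succ j ih =>
          obtain ⟨e, he, hje⟩ := ih
          refine ⟨e + d * j, by linarith [he], ?_⟩
          rw [pow_succ, hje, show κ ^ j * y ^ e * x ^ j * (κ * x) = κ ^ j * y ^ e * (x ^ j * κ) * x by group, hxj,
            show κ ^ j * y ^ e * (y ^ (d * j) * κ * x ^ j) * x = κ ^ j * (y ^ (e + d * j) * κ) * (x ^ j * x) by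
              rw [pow_add]; group,
            (hyκ.pow_left _).eq, pow_succ κ, pow_succ x]
          group
      obtain ⟨e, he, h7⟩ := hj 7
      rw [hK7 κ hm, show e = 7 * (3 * d) by omega, pow_mul y, D.y_pow, one_pow, one_mul, one_mul, hκ,
        inv_mul_cancel_right, conj_pow] at h7
      exact mul_inv_eq_iff_eq_mul.1 h7
    by_cases hKA : A ≤ K
    · -- then `P` centralizes `x ^ 7`
      refine hnS (D.mem_S_of_fix hP hN hn ?_)
      rw [hzx]
      exact (hfix n (hKA (D.x_central hP hSP hN hn))).pow_right _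
    · have hlt : K < A := lt_of_le_of_ne inf_le_left fun e => hKA e.ge
      obtain ⟨u, hu, huK, huc⟩ := exists_next (D.pGroup_S) D.A_le hlt
        (fun s hs b hb => by
          obtain ⟨j, e, he, rfl⟩ := D.mem_S.1 hs
          rw [show x ^ j * e * b * (x ^ j * e)⁻¹ = x ^ j * (e * b * e⁻¹) * (x ^ j)⁻¹ by group,
            (D.comm e he b hb.1).eq, mul_inv_cancel_right]
          exact conj_pow_mem hxK j hb)
        (fun s hs b hb => D.conj_S hs hb)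
      refine huK ⟨hu, mem_centralizer_singleton_iff.2 (hfix u ?_).eq⟩
      rw [show u * x * u⁻¹ * x⁻¹ = (x * u * x⁻¹ * u⁻¹)⁻¹ by group]
      exact inv_mem (huc x hx1)
  obtain ⟨b, hb⟩ := mem_powers_iff_mem_zpowers.2 hwy
  simp only at hb
  rw [← hb] at hvw
  have hvc : ∀ s ∈ S₀, Commute v s := fun s hs => hvw ▸ ((D.z_comm hs).pow_left a).mul_left ((D.y_comm hs).pow_left b)
  -- conjugate into the normalizer
  have hQcard : Nat.card ↥((S₀).map (MulAut.conj g⁻¹).toMonoidHom) = 7 ^ (2 * i) := by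
    rw [card_map_of_injective (MulAut.conj g⁻¹).injective, D.card_S]
  obtain ⟨h, hhz, hh⟩ := D.conj_to_S hQcard (by
    rintro _ ⟨s, hs, rfl⟩
    have e := (Commute.conj_iff g⁻¹).2 (hvc s hs).symm
    rw [hv, show g⁻¹ * (g * z₀ * g⁻¹) * g⁻¹⁻¹ = z₀ by group] at e
    exact e)
  have hhg : h * g⁻¹ ∈ N₀ := by
    have hmap : ∀ s ∈ S₀, (h * g⁻¹) * s * (h * g⁻¹)⁻¹ ∈ S₀ := fun s hs => by
      have := hh _ ⟨s, hs, rfl⟩
      rwa [show h * ((MulAut.conj g⁻¹).toMonoidHom s) * h⁻¹ = (h * g⁻¹) * s * (h * g⁻¹)⁻¹ by simp; group] at this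
    refine mem_normalizer_iff.2 fun s => ⟨hmap s, fun hs => ?_⟩
    have hle : (S₀).map (MulAut.conj (h * g⁻¹)).toMonoidHom ≤ S₀ := by rintro _ ⟨t, ht, rfl⟩; exact hmap t ht
    have heq := Subgroup.eq_of_le_of_card_ge hle (by rw [card_map_of_injective (MulAut.conj (h * g⁻¹)).injective])
    rw [← heq] at hs
    obtain ⟨t, ht, hts⟩ := hs
    exact (MulAut.conj (h * g⁻¹)).injective hts ▸ ht
  obtain ⟨e, he⟩ := D.conj_z (inv_mem hhg)
  refine ⟨e, ?_⟩
  rw [← he, hv, mul_inv_rev, inv_inv]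
  calc g * z₀ * g⁻¹ = g * (h⁻¹ * (h * z₀) * h⁻¹ * h) * g⁻¹ := by group
    _ = _ := by rw [hhz.eq]; group

end SData

end Cfsg.Lib.Ree.SevenPow
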